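import Groth.Agent.Abh24.Kummer
import Groth.Agent.KummerReg24.Basic
import Groth.Agent.ShDesc24.NormalSplit
import Groth.Agent.S2743
import Groth.Agent.S0539
import Groth.Agent.S12237
import Groth.Agent.S0537
import Groth.Agent.S14620
import Groth.Agent.S0249
import Groth.Agent.S0538
import Groth.Agent.S0541

/-!
# Descent along radicial Kummer extensions
-/

set_option autoImplicit false
set_option backward.isDefEq.respectTransparency false
set_option backward.isDefEq.respectTransparency.types false
set_option linter.style.haveILetI false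
set_option maxHeartbeats 2000000

universe u

open TensorProduct IsLocalRing

namespace Groth.Agent.Abh24

/-- Points of a finite unramified algebra with radicial residue fields are rational. -/
theorem mem_range_of_radicial {R C Ω : Type u} [CommRing R] [IsLocalRing R] [CommRing C] [Algebra R C]
    [Module.Finite R C] [Algebra.FormallyUnramified R C] [Field Ω] [Algebra R Ω]
    (hinj : Function.Injective (algebraMap R Ω)) (p : ℕ) [Fact p.Prime] (hp : (p : R) ∈ maximalIdeal R)
    (ψ : C →ₐ[R] Ω)
    (h : ∀ c, ∃ (N : ℕ) (r : R) (z : integralClosure R Ω),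
      z ∈ (maximalIdeal R).map (algebraMap R (integralClosure R Ω)) ∧
        (z : Ω) = ψ c ^ (p ^ N) - algebraMap R Ω r)
    (c : C) : ψ c ∈ (algebraMap R Ω).range := by
  classical
  let S := ψ.range
  let π : C →ₐ[R] S := ψ.rangeRestrict
  have hπ : Function.Surjective π := ψ.rangeRestrict_surjective
  haveI : Algebra.FormallyUnramified R S := Algebra.FormallyUnramified.of_surjective π hπ
  haveI : Module.Finite R S := Module.Finite.of_surjective π.toLinearMap hπ
  haveI : Algebra.IsIntegral R S := Algebra.IsIntegral.of_finite R S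
  let ι : S →ₐ[R] integralClosure R Ω :=
    S.val.codRestrict _ fun s => (Algebra.IsIntegral.isIntegral (R := R) s).map S.val
  have hιinj : Function.Injective ι := fun a b hab => Subtype.ext
    (show (a : Ω) = b from congrArg (fun w : integralClosure R Ω => (w : Ω)) hab)
  letI : Algebra S (integralClosure R Ω) := ι.toRingHom.toAlgebra
  haveI : IsScalarTower R S (integralClosure R Ω) := IsScalarTower.of_algebraMap_eq fun a => (ι.commutes a).symm
  haveI : Algebra.IsIntegral S (integralClosure R Ω) := Algebra.IsIntegral.tower_top (R := R)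
  have key : ∀ x : S, ∃ (N : ℕ) (r : R), ∀ (m : Ideal S), m.IsMaximal →
      x ^ (p ^ N) - algebraMap R S r ∈ m := by
    intro x
    obtain ⟨c, hc⟩ := hπ x
    obtain ⟨N, r, z, hz, hzx⟩ := h c
    refine ⟨N, r, fun m hm => ?_⟩
    haveI := hm
    obtain ⟨P, hPmax, hP⟩ := Ideal.exists_ideal_over_maximal_of_isIntegral
      (S := integralClosure R Ω) m (by
        rw [show RingHom.ker (algebraMap S (integralClosure R Ω)) = ⊥ from (RingHom.injective_iff_ker_eq_bot _).1 hιinj]
        exact bot_le)
    rw [← hP, Ideal.mem_comap]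
    have hm' : m.comap (algebraMap R S) = maximalIdeal R :=
      IsLocalRing.eq_maximalIdeal (Ideal.isMaximal_comap_of_isIntegral_of_isMaximal m)
    have hle : (maximalIdeal R).map (algebraMap R (integralClosure R Ω)) ≤ P := by
      rw [Ideal.map_le_iff_le_comap, IsScalarTower.algebraMap_eq R S (integralClosure R Ω), ← Ideal.comap_comap,
        hP, hm']
    convert hle hz
    refine Subtype.ext ?_
    rw [hzx, ← hc]
    rfl
  haveI : Nontrivial S := ⟨⟨0, 1, fun h => zero_ne_one (congrArg Subtype.val h)⟩⟩
  have huniq : ∀ m₁ m₂ : Ideal S, m₁.IsMaximal → m₂.IsMaximal → m₁ ≤ m₂ := by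
    intro m₁ m₂ h₁ h₂ x hx
    obtain ⟨N, r, hr⟩ := key x
    have hrP : r ∈ maximalIdeal R := by
      haveI := h₁
      rw [← IsLocalRing.eq_maximalIdeal (Ideal.isMaximal_comap_of_isIntegral_of_isMaximal (R := R) m₁),
        Ideal.mem_comap]
      have := m₁.sub_mem (Ideal.pow_mem_of_mem _ hx _ (pow_pos (Fact.out : p.Prime).pos N)) (hr m₁ h₁)
      rwa [sub_sub_cancel] at this
    haveI := h₂
    refine h₂.isPrime.mem_of_pow_mem (p ^ N) ?_
    have hr2 : algebraMap R S r ∈ m₂ := by
      rw [← Ideal.mem_comap, IsLocalRing.eq_maximalIdeal (Ideal.isMaximal_comap_of_isIntegral_of_isMaximal m₂)]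
      exact hrP
    have := m₂.add_mem (hr m₂ h₂) hr2
    rwa [sub_add_cancel] at this
  obtain ⟨m₀, hm₀⟩ := Ideal.exists_maximal S
  haveI : IsLocalRing S := IsLocalRing.of_unique_max_ideal ⟨m₀, hm₀, fun m hm =>
    le_antisymm (huniq m m₀ hm hm₀) (huniq m₀ m hm₀ hm)⟩
  have hcomap : (maximalIdeal S).comap (algebraMap R S) = maximalIdeal R :=
    IsLocalRing.eq_maximalIdeal (Ideal.isMaximal_comap_of_isIntegral_of_isMaximal _)
  haveI : IsLocalHom (algebraMap R S) := ((IsLocalRing.local_hom_TFAE _).out 0 4).2 hcomap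
  haveI : Algebra.EssFiniteType R S := inferInstance
  obtain ⟨hsep, hmap⟩ := (Algebra.FormallyUnramified.iff_map_maximalIdeal_eq (R := R) (S := S)).1 inferInstance
  haveI := hsep
  haveI : CharP (ResidueField R) p := by
    refine (CharP.charP_iff_prime_eq_zero (Fact.out : p.Prime)).2 ?_
    rw [← map_natCast (residue R)]
    exact (residue_eq_zero_iff _).2 hp
  haveI : ExpChar (ResidueField R) p := ExpChar.prime (Fact.out : p.Prime)
  haveI : IsPurelyInseparable (ResidueField R) (ResidueField S) := by
    rw [isPurelyInseparable_iff_pow_mem (ResidueField R) p]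
    intro y
    obtain ⟨y, rfl⟩ := residue_surjective y
    obtain ⟨N, r, hr⟩ := key y
    refine ⟨N, residue R r, ?_⟩
    rw [← map_pow]
    exact ((Ideal.Quotient.eq (x := y ^ (p ^ N)) (y := algebraMap R S r)).2 (hr _ inferInstance)).symm
  have hsurjres : Function.Surjective (algebraMap (ResidueField R) (ResidueField S)) :=
    IsPurelyInseparable.surjective_algebraMap_of_isSeparable (ResidueField R) (ResidueField S)
  have htop : (⊤ : Submodule R S) ≤ LinearMap.range (Algebra.linearMap R S) := by
    refine Submodule.le_of_le_smul_of_le_jacobson_bot Module.Finite.fg_top (maximalIdeal_le_jacobson _) ?_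
    intro y _
    obtain ⟨w, hw⟩ := hsurjres (residue S y)
    obtain ⟨r, rfl⟩ := residue_surjective w
    have hyr : y - algebraMap R S r ∈ maximalIdeal S := (Ideal.Quotient.eq).1 hw.symm
    rw [← hmap] at hyr
    refine Submodule.mem_sup.2 ⟨algebraMap R S r, ⟨r, rfl⟩, y - algebraMap R S r, ?_, by ring⟩
    rw [Ideal.smul_top_eq_map]
    exact hyr
  obtain ⟨r, hr⟩ := htop (Submodule.mem_top (x := π c))
  exact ⟨r, congrArg Subtype.val hr⟩

/-- Cotangent images stay independent along a local map with the same maximal ideal and dimension. -/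
theorem linearIndependent_cotangent_map {A R : Type u} [CommRing A] [IsRegularLocalRing A] [CommRing R]
    [IsRegularLocalRing R] [Algebra A R] {r : ℕ} (T₀ : Fin r → A) (hm : ∀ i, T₀ i ∈ maximalIdeal A)
    (hli : LinearIndependent (ResidueField A) (fun i => (maximalIdeal A).toCotangent ⟨T₀ i, hm i⟩))
    (hmR : ∀ i, algebraMap A R (T₀ i) ∈ maximalIdeal R)
    (hmax : (maximalIdeal A).map (algebraMap A R) = maximalIdeal R) (hdim : ringKrullDim R = ringKrullDim A) :
    LinearIndependent (ResidueField R) (fun i => (maximalIdeal R).toCotangent ⟨algebraMap A R (T₀ i), hmR i⟩) := by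
  classical
  let b := Module.Basis.sumExtend hli
  haveI : Finite (Fin r ⊕ Module.Basis.sumExtendIndex hli) := Module.Finite.finite_basis b
  haveI : Fintype (Module.Basis.sumExtendIndex hli) :=
    haveI : Fintype (Fin r ⊕ Module.Basis.sumExtendIndex hli) := Fintype.ofFinite _
    Fintype.ofInjective _ (Sum.inr_injective (α := Fin r))
  have hb : ∀ x, ∃ y : maximalIdeal A, (maximalIdeal A).toCotangent y = b x := fun x =>
    (maximalIdeal A).toCotangent_surjective _
  choose y hy using hb
  have hl : ∀ i, (maximalIdeal A).toCotangent (y (Sum.inl i)) = (maximalIdeal A).toCotangent ⟨T₀ i, hm i⟩ := fun i => by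
    rw [hy]; simp [b, Module.Basis.sumExtend]; rfl
  let v : Fin r ⊕ Module.Basis.sumExtendIndex hli → maximalIdeal A :=
    Sum.elim (fun i => ⟨T₀ i, hm i⟩) (fun j => y (Sum.inr j))
  have hv : ∀ x, (maximalIdeal A).toCotangent (v x) = b x := by
    rintro (i | j)
    · exact (hl i).symm.trans (hy _)
    · exact hy _
  have hJ : maximalIdeal A ≤ Ideal.span (Set.range fun x => (v x : A)) := by
    refine Submodule.le_of_le_smul_of_le_jacobson_bot (maximalIdeal A).fg_of_isNoetherianRing
      (maximalIdeal_le_jacobson _) fun x hx => ?_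
    have hx' : (maximalIdeal A).toCotangent ⟨x, hx⟩ ∈ Submodule.span A (Set.range b) := by
      rw [← Submodule.restrictScalars_span A (ResidueField A) residue_surjective, b.span_eq,
        Submodule.restrictScalars_top]
      trivial
    have hx'' : (maximalIdeal A).toCotangent ⟨x, hx⟩ ∈
        (Submodule.comap (maximalIdeal A).subtype (Ideal.span (Set.range fun x => (v x : A)))).map
          (maximalIdeal A).toCotangent := by
      refine (Submodule.span_le.2 ?_) hx'
      rintro _ ⟨z, rfl⟩
      exact ⟨v z, Ideal.subset_span ⟨z, rfl⟩, hv z⟩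
    obtain ⟨z, hz, hzx⟩ := hx''
    have hd := ((maximalIdeal A).toCotangent_eq).1 hzx
    rw [pow_two, ← smul_eq_mul] at hd
    rw [show x = (z : A) + -((z : A) - x) by ring]
    exact Submodule.add_mem_sup hz (Submodule.neg_mem _ hd)
  have hmemR : ∀ x, algebraMap A R (v x : A) ∈ maximalIdeal R := fun x =>
    hmax ▸ Ideal.mem_map_of_mem _ (v x).2
  let w : Fin r ⊕ Module.Basis.sumExtendIndex hli → maximalIdeal R := fun x => ⟨_, hmemR x⟩
  have htop : Submodule.span R (Set.range w) = ⊤ := by
    refine Submodule.map_injective_of_injective (maximalIdeal R).injective_subtype ?_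
    rw [Submodule.map_span, Submodule.map_top, Submodule.range_subtype, ← Set.range_comp]
    show Ideal.span (Set.range fun x => algebraMap A R (v x : A)) = maximalIdeal R
    refine le_antisymm (Ideal.span_le.2 (by rintro _ ⟨x, rfl⟩; exact hmemR x)) ?_
    calc maximalIdeal R = (maximalIdeal A).map (algebraMap A R) := hmax.symm
      _ ≤ (Ideal.span (Set.range fun x => (v x : A))).map (algebraMap A R) := Ideal.map_mono hJ
      _ = _ := by rw [Ideal.map_span, ← Set.range_comp]; rfl
  have hspan : ⊤ ≤ Submodule.span (ResidueField R) (Set.range fun x => (maximalIdeal R).toCotangent (w x)) := by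
    intro z _
    obtain ⟨z, rfl⟩ := (maximalIdeal R).toCotangent_surjective z
    have hz : z ∈ Submodule.span R (Set.range w) := htop ▸ trivial
    induction hz using Submodule.span_induction with
    | mem w hw => obtain ⟨i, rfl⟩ := hw; exact Submodule.subset_span ⟨i, rfl⟩
    | zero => rw [map_zero]; exact zero_mem _
    | add a c _ _ ha hc => rw [map_add]; exact add_mem (ha trivial) (hc trivial)
    | smul a w _ hw =>
      rw [map_smul, ← IsScalarTower.algebraMap_smul (ResidueField R) a]
      exact Submodule.smul_mem _ _ (hw trivial)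
  haveI : Fintype (Fin r ⊕ Module.Basis.sumExtendIndex hli) := Fintype.ofFinite _
  have hfin : Fintype.card (Fin r ⊕ Module.Basis.sumExtendIndex hli) =
      Module.finrank (ResidueField R) (CotangentSpace R) := by
    have h := ((IsRegularLocalRing.iff_finrank_cotangentSpace R).1 ‹_›).trans
      (hdim.trans ((IsRegularLocalRing.iff_finrank_cotangentSpace A).1 ‹_›).symm)
    have h2 : Module.finrank (ResidueField R) (CotangentSpace R) = Module.finrank (ResidueField A) (CotangentSpace A) := by
      exact_mod_cast h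
    rw [h2, Module.finrank_eq_card_basis b]
  exact (linearIndependent_of_top_le_span_of_card_eq_finrank hspan hfin).comp Sum.inl Sum.inl_injective

/-- `p ^ N`-th powers in a Kummer algebra with `p`-power exponents are rational modulo `p`. -/
theorem pow_sub_mem {R : Type u} [CommRing R] {r : ℕ} (T₀ : Fin r → R) (p : ℕ) [Fact p.Prime] (a : Fin r → ℕ)
    (P : Ideal R) (hp : (p : R) ∈ P) (N : ℕ) (hN : ∀ i, a i ≤ N)
    (y : SGA1.kummerAlg R T₀ (fun i => p ^ a i)) :
    ∃ c : R, y ^ (p ^ N) - algebraMap R _ c ∈ P.map (algebraMap R (SGA1.kummerAlg R T₀ (fun i => p ^ a i))) := by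
  obtain ⟨y, rfl⟩ := Ideal.Quotient.mk_surjective y
  induction y using MvPolynomial.induction_on with
  | C c =>
    refine ⟨c ^ (p ^ N), ?_⟩
    rw [map_pow, show Ideal.Quotient.mk _ (MvPolynomial.C c) = algebraMap R (SGA1.kummerAlg R T₀ _) c from rfl,
      sub_self]
    exact zero_mem _
  | add y z hy hz =>
    obtain ⟨c, hc⟩ := hy
    obtain ⟨d, hd⟩ := hz
    refine ⟨c + d, ?_⟩
    obtain ⟨e, he⟩ := exists_add_pow_prime_pow_eq (Fact.out : p.Prime)
      (Ideal.Quotient.mk _ y : SGA1.kummerAlg R T₀ (fun i => p ^ a i)) (Ideal.Quotient.mk _ z) N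
    rw [map_add, he, map_add]
    refine (congrArg (· ∈ P.map (algebraMap R (SGA1.kummerAlg R T₀ (fun i => p ^ a i)))) ?_).mp
      (Ideal.add_mem _ (Ideal.add_mem _ hc hd) (Ideal.mul_mem_right
        (Ideal.Quotient.mk _ y * Ideal.Quotient.mk _ z * e) _ (Ideal.mem_map_of_mem _ hp)))
    simp only [map_natCast]
    ring
  | mul_X y i hy =>
    obtain ⟨c, hc⟩ := hy
    refine ⟨c * T₀ i ^ (p ^ (N - a i)), ?_⟩
    rw [map_mul, mul_pow, map_mul, map_pow]
    have h1 : (Ideal.Quotient.mk _ (MvPolynomial.X i) : SGA1.kummerAlg R T₀ (fun i => p ^ a i)) ^ (p ^ N) =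
        algebraMap R _ (T₀ i) ^ (p ^ (N - a i)) := by
      rw [← KummerReg24.T_pow R T₀ (fun i => p ^ a i) i, ← pow_mul, ← pow_add, Nat.add_sub_cancel' (hN i)]
      rfl
    rw [h1, ← sub_mul]
    exact Ideal.mul_mem_right _ _ hc

/-- Points with values in a radicial Kummer extension are rational over a height one localisation. -/
theorem mem_range_of_kummer {R : Type u} [CommRing R] [IsDomain R] {r : ℕ} (f : Fin r → R) (p : ℕ) [Fact p.Prime]
    (a : Fin r → ℕ) [IsDomain (SGA1.kummerAlg R f (fun i => p ^ a i))]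
    [IsIntegrallyClosed (SGA1.kummerAlg R f (fun i => p ^ a i))]
    [Algebra.IsIntegral R (SGA1.kummerAlg R f (fun i => p ^ a i))]
    (P : Ideal R) [P.IsPrime] (hpP : (p : R) ∈ P)
    (L' : Type u) [Field L'] [Algebra (SGA1.kummerAlg R f (fun i => p ^ a i)) L']
    [IsFractionRing (SGA1.kummerAlg R f (fun i => p ^ a i)) L'] [Algebra R L']
    [IsScalarTower R (SGA1.kummerAlg R f (fun i => p ^ a i)) L']
    (Ω : Type u) [Field Ω] [Algebra L' Ω] [Algebra R Ω] [IsScalarTower R L' Ω]
    (RP : Type u) [CommRing RP] [Algebra R RP] [IsLocalization.AtPrime RP P] [IsLocalRing RP]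
    [Algebra RP Ω] [IsScalarTower R RP Ω] (hinj : Function.Injective (algebraMap RP Ω))
    (D : Type u) [CommRing D] [Algebra RP D] [Module.Finite RP D] [Algebra.FormallyUnramified RP D]
    (ψ : D →ₐ[RP] Ω) (hψ : ∀ d, ψ d ∈ (algebraMap L' Ω).range) (d : D) :
    ψ d ∈ (algebraMap RP Ω).range := by
  have hmemp : (p : RP) ∈ maximalIdeal RP := by
    rw [← map_natCast (algebraMap R RP)]
    exact (IsLocalization.AtPrime.to_map_mem_maximal_iff RP P (p : R)).2 hpP
  refine mem_range_of_radicial hinj p hmemp ψ (fun d => ?_) d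
  haveI : Algebra.IsIntegral RP D := Algebra.IsIntegral.of_finite RP D
  obtain ⟨⟨s, hs⟩, hsint⟩ := IsIntegral.exists_multiple_integral_of_isLocalization P.primeCompl (ψ d)
    ((Algebra.IsIntegral.isIntegral (R := RP) d).map ψ)
  obtain ⟨w, hw⟩ := hψ d
  let R' := SGA1.kummerAlg R f (fun i => p ^ a i)
  have hwint : IsIntegral R' (algebraMap R L' s * w) := by
    refine IsIntegral.tower_top (R := R) ?_
    rw [← isIntegral_algebraMap_iff (algebraMap L' Ω).injective, map_mul, hw,
      ← IsScalarTower.algebraMap_apply R L' Ω, ← Algebra.smul_def]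
    exact hsint
  obtain ⟨y, hy⟩ := IsIntegrallyClosed.isIntegral_iff.1 hwint
  obtain ⟨c, hc⟩ := pow_sub_mem f p a P hpP (∑ i, a i)
    (fun i => Finset.single_le_sum (fun j _ => Nat.zero_le (a j)) (Finset.mem_univ i)) y
  let q := p ^ (∑ i, a i)
  have hsu : IsUnit (algebraMap R RP s) := IsLocalization.map_units RP (⟨s, hs⟩ : P.primeCompl)
  obtain ⟨si, hsi⟩ := hsu.exists_left_inv
  let toZ : R' →+* integralClosure RP Ω := ((algebraMap L' Ω).comp (algebraMap R' L')).codRestrict _ fun x =>
    IsIntegral.tower_top (R := R) (((Algebra.IsIntegral.isIntegral (R := R) x).map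
      (IsScalarTower.toAlgHom R R' L')).map (IsScalarTower.toAlgHom R L' Ω))
  have hRR'Ω : ∀ x, algebraMap L' Ω (algebraMap R' L' (algebraMap R R' x)) = algebraMap R Ω x := fun x => by
    rw [← IsScalarTower.algebraMap_apply R R' L', ← IsScalarTower.algebraMap_apply R L' Ω]
  have htoZ : toZ.comp (algebraMap R R') = (algebraMap RP (integralClosure RP Ω)).comp (algebraMap R RP) :=
    RingHom.ext fun x => Subtype.ext ((hRR'Ω x).trans (IsScalarTower.algebraMap_apply R RP Ω x))
  have hmapP : P.map (algebraMap R RP) = maximalIdeal RP := IsLocalization.AtPrime.map_eq_maximalIdeal P RP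
  have hz : toZ (y ^ q - algebraMap R R' c) ∈ (maximalIdeal RP).map (algebraMap RP (integralClosure RP Ω)) := by
    have h' := Ideal.mem_map_of_mem toZ hc
    rw [Ideal.map_map, htoZ, ← Ideal.map_map, hmapP] at h'
    exact h'
  refine ⟨∑ i, a i, algebraMap R RP c * si ^ q, algebraMap RP _ (si ^ q) * toZ (y ^ q - algebraMap R R' c),
    Ideal.mul_mem_left _ _ hz, ?_⟩
  have hyΩ : algebraMap L' Ω (algebraMap R' L' y) = algebraMap R Ω s * ψ d := by
    rw [hy, map_mul, hw, ← IsScalarTower.algebraMap_apply R L' Ω]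
  show algebraMap RP Ω (si ^ q) * algebraMap L' Ω (algebraMap R' L' (y ^ q - algebraMap R R' c)) = _
  rw [map_sub, map_sub, hRR'Ω, map_pow (algebraMap R' L'), map_pow (algebraMap L' Ω), hyΩ, map_mul, map_pow,
    IsScalarTower.algebraMap_apply R RP Ω s, IsScalarTower.algebraMap_apply R RP Ω c, mul_pow, mul_sub,
    ← mul_assoc, ← mul_pow, ← map_mul, hsi, map_one, one_pow, one_mul, mul_comm]

/-- An étale algebra all of whose geometric points are rational is split. -/
theorem exists_split_of_points (L Ω E : Type u) [Field L] [Field Ω] [IsAlgClosed Ω] [Algebra L Ω]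
    [CommRing E] [Algebra L E] [Module.Finite L E] [Algebra.Etale L E]
    (h : ∀ (φ : E →ₐ[L] Ω) (x : E), φ x ∈ (algebraMap L Ω).range) :
    Finite (MaximalSpectrum E) ∧ Nonempty (E ≃ₐ[L] (MaximalSpectrum E → L)) := by
  obtain ⟨hfin, Φ, -⟩ := exists_piEquiv L E
  refine ⟨hfin, ⟨Φ.trans (AlgEquiv.piCongrRight fun Q => (AlgEquiv.ofBijective (Algebra.ofId L (E ⧸ Q.asIdeal)) ?_).symm)⟩⟩
  letI : Field (E ⧸ Q.asIdeal) := Ideal.Quotient.field Q.asIdeal
  refine ⟨(algebraMap L (E ⧸ Q.asIdeal)).injective, fun z => ?_⟩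
  haveI : Module.Finite L (E ⧸ Q.asIdeal) := Module.Finite.of_surjective
    (Ideal.Quotient.mkₐ L Q.asIdeal).toLinearMap Ideal.Quotient.mk_surjective
  haveI : Algebra.IsAlgebraic L (E ⧸ Q.asIdeal) := Algebra.IsAlgebraic.of_finite L _
  let σ : E ⧸ Q.asIdeal →ₐ[L] Ω := IsAlgClosed.lift
  obtain ⟨z, rfl⟩ := Ideal.Quotient.mk_surjective z
  obtain ⟨l, hl⟩ := h (σ.comp (Ideal.Quotient.mkₐ L Q.asIdeal)) z
  exact ⟨l, σ.toRingHom.injective ((σ.commutes l).trans hl)⟩

/-- Points of an algebra with models over a radicial Kummer extension and in codimension one. -/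
theorem mem_range_of_models {R : Type u} [CommRing R] [IsRegularLocalRing R] [IsDomain R] {r : ℕ} (f : Fin r → R)
    (p : ℕ) [Fact p.Prime] (a : Fin r → ℕ) [IsRegularLocalRing (SGA1.kummerAlg R f (fun i => p ^ a i))]
    [IsDomain (SGA1.kummerAlg R f (fun i => p ^ a i))]
    [HenselianLocalRing (SGA1.kummerAlg R f (fun i => p ^ a i))]
    [IsSepClosed (ResidueField (SGA1.kummerAlg R f (fun i => p ^ a i)))]
    [Algebra.IsIntegral R (SGA1.kummerAlg R f (fun i => p ^ a i))]
    (L : Type u) [Field L] [Algebra R L] [IsFractionRing R L]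
    (L' : Type u) [Field L'] [Algebra (SGA1.kummerAlg R f (fun i => p ^ a i)) L']
    [IsFractionRing (SGA1.kummerAlg R f (fun i => p ^ a i)) L'] [Algebra R L'] [Algebra L L']
    [IsScalarTower R L L'] [IsScalarTower R (SGA1.kummerAlg R f (fun i => p ^ a i)) L']
    (Ω : Type u) [Field Ω] [Algebra L' Ω] [Algebra L Ω] [IsScalarTower L L' Ω] [Algebra R Ω] [IsScalarTower R L Ω]
    (EL : Type u) [CommRing EL] [Algebra L EL] (P : Ideal R) [P.IsPrime] (hpP : (p : R) ∈ P)
    (RP : Type u) [CommRing RP] [Algebra R RP] [IsLocalization.AtPrime RP P] [Algebra RP L]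
    [IsScalarTower R RP L]
    (h2 : HasModel (SGA1.kummerAlg R f (fun i => p ^ a i)) L' (L' ⊗[L] EL)) (h1 : HasModel RP L EL)
    (φ : EL →ₐ[L] Ω) (x : EL) : φ x ∈ (algebraMap L Ω).range := by
  haveI : IsScalarTower R L' Ω := IsScalarTower.of_algebraMap_eq fun x => by
    rw [IsScalarTower.algebraMap_apply R L Ω, IsScalarTower.algebraMap_apply L L' Ω,
      ← IsScalarTower.algebraMap_apply R L L']
  haveI := RegLoc6.isIntegrallyClosed_of_isRegularLocalRing (SGA1.kummerAlg R f (fun i => p ^ a i))
  let φ₂ : L' ⊗[L] EL →ₐ[L'] Ω := Algebra.TensorProduct.lift (Algebra.ofId L' Ω) φ fun _ _ => .all _ _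
  have hL' : ∀ y, φ y ∈ (algebraMap L' Ω).range := fun y => by
    have h := h2.mem_range φ₂ (1 ⊗ₜ y)
    have he : φ₂ (1 ⊗ₜ y) = φ y := by simp [φ₂]
    rwa [he] at h
  haveI : IsLocalRing RP := IsLocalization.AtPrime.isLocalRing RP P
  haveI : IsFractionRing RP L := IsFractionRing.isFractionRing_of_isDomain_of_isLocalization P.primeCompl RP L
  obtain ⟨D, _, _, hDf, hDe, ⟨eD⟩⟩ := h1
  haveI := hDf
  haveI := hDe
  letI : Algebra RP Ω := ((algebraMap L Ω).comp (algebraMap RP L)).toAlgebra
  haveI : IsScalarTower RP L Ω := IsScalarTower.of_algebraMap_eq fun _ => rfl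
  haveI : IsScalarTower R RP Ω := IsScalarTower.of_algebraMap_eq fun x => by
    show algebraMap R Ω x = algebraMap L Ω (algebraMap RP L (algebraMap R RP x))
    rw [← IsScalarTower.algebraMap_apply R RP L, ← IsScalarTower.algebraMap_apply R L Ω]
  let ψ : D →ₐ[RP] Ω := ((φ.comp eD.toAlgHom).restrictScalars RP).comp Algebra.TensorProduct.includeRight
  have hinj : Function.Injective (algebraMap RP Ω) := by
    rw [IsScalarTower.algebraMap_eq RP L Ω]
    exact (algebraMap L Ω).injective.comp (IsFractionRing.injective RP L)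
  have hψL : ∀ d, ψ d ∈ (algebraMap L Ω).range := fun d => by
    obtain ⟨w, hw⟩ := mem_range_of_kummer f p a P hpP L' Ω RP hinj D ψ (fun d => hL' _) d
    exact ⟨algebraMap RP L w, by rw [← IsScalarTower.algebraMap_apply RP L Ω, hw]⟩
  obtain ⟨w, rfl⟩ := eD.surjective x
  induction w with
  | zero => simp
  | add x y hx hy => rw [map_add, map_add]; exact add_mem hx hy
  | tmul l d =>
    rw [show l ⊗ₜ[RP] d = l • ((1 : L) ⊗ₜ[RP] d) by rw [TensorProduct.smul_tmul', smul_eq_mul, mul_one],
      map_smul, map_smul, Algebra.smul_def]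
    exact mul_mem ⟨l, rfl⟩ (hψL d)

/-- A fraction field upstairs, as an extension of the fraction field downstairs. -/
theorem exists_fraction_field (R R' : Type u) [CommRing R] [IsDomain R] [CommRing R'] [IsDomain R'] [Algebra R R']
    (L : Type u) [Field L] [Algebra R L] [IsFractionRing R L] (hinj : Function.Injective (algebraMap R R')) :
    ∃ (L' : Type u) (_ : Field L') (_ : Algebra R' L') (_ : IsFractionRing R' L') (_ : Algebra R L')
      (_ : IsScalarTower R R' L') (_ : Algebra L L'), IsScalarTower R L L' := by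
  have hRL' : Function.Injective (algebraMap R (FractionRing R')) := by
    rw [IsScalarTower.algebraMap_eq R R' (FractionRing R')]
    exact (IsFractionRing.injective R' (FractionRing R')).comp hinj
  letI : Algebra L (FractionRing R') := (IsFractionRing.lift (A := R) (K := L) hRL').toAlgebra
  exact ⟨FractionRing R', inferInstance, inferInstance, inferInstance, inferInstance, inferInstance, inferInstance,
    IsScalarTower.of_algebraMap_eq fun x => (IsFractionRing.lift_algebraMap (K := L) hRL' x).symm⟩

/-- Models along a square of domains. -/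
theorem hasModel_square (A A' R R' : Type u) [CommRing A] [IsDomain A] [CommRing A'] [IsDomain A'] [Algebra A A']
    [Algebra.IsIntegral A A'] [CommRing R] [IsDomain R] [Algebra A R] [CommRing R'] [IsDomain R']
    [Algebra R R'] [Algebra A R'] [IsScalarTower A R R'] (hAA' : Function.Injective (algebraMap A A'))
    (hinjAR : Function.Injective (algebraMap A R)) (hinjRR' : Function.Injective (algebraMap R R'))
    (g : A' →ₐ[A] R') (K L L' : Type u) [Field K] [Algebra A K] [IsFractionRing A K] [Field L] [Algebra R L]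
    [IsFractionRing R L] [Field L'] [Algebra R' L'] [IsFractionRing R' L'] [Algebra K L] [Algebra A L]
    [IsScalarTower A R L] [IsScalarTower A K L] [Algebra L L'] [Algebra R L'] [IsScalarTower R R' L']
    [IsScalarTower R L L'] (E : Type u) [CommRing E] [Algebra K E]
    (h2 : ∀ (K' : Type u) [Field K'] [Algebra A' K'] [IsFractionRing A' K'] [Algebra K K'] [Algebra A K']
      [IsScalarTower A A' K'] [IsScalarTower A K K'], HasModel A' K' (K' ⊗[K] E)) :
    HasModel R' L' (L' ⊗[L] (L ⊗[K] E)) := by
  letI : Algebra K L' := ((algebraMap L L').comp (algebraMap K L)).toAlgebra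
  haveI : IsScalarTower K L L' := IsScalarTower.of_algebraMap_eq fun _ => rfl
  have hginj : Function.Injective g := by
    rw [← g.coe_toRingHom, RingHom.injective_iff_ker_eq_bot]
    refine Ideal.eq_bot_of_comap_eq_bot (R := A) ?_
    rw [eq_bot_iff]
    intro x hx
    rw [Ideal.mem_comap, RingHom.mem_ker, AlgHom.coe_toRingHom, AlgHom.commutes,
      IsScalarTower.algebraMap_apply A R R'] at hx
    exact Ideal.mem_bot.2 (hinjAR ((hinjRR' (hx.trans (map_zero _).symm)).trans (map_zero _).symm))
  let K' := FractionRing A'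
  have hAK' : Function.Injective (algebraMap A K') := by
    rw [IsScalarTower.algebraMap_eq A A' K']
    exact (IsFractionRing.injective A' K').comp hAA'
  letI : Algebra K K' := (IsFractionRing.lift (A := A) (K := K) hAK').toAlgebra
  haveI : IsScalarTower A K K' := IsScalarTower.of_algebraMap_eq fun x =>
    (IsFractionRing.lift_algebraMap (K := K) hAK' x).symm
  have hA'L' : Function.Injective ((algebraMap R' L').comp g.toRingHom) :=
    (IsFractionRing.injective R' L').comp hginj
  letI : Algebra K' L' := (IsFractionRing.lift (A := A') (K := K') hA'L').toAlgebra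
  letI : Algebra A' R' := g.toRingHom.toAlgebra
  letI : Algebra A' L' := ((algebraMap R' L').comp g.toRingHom).toAlgebra
  haveI : IsScalarTower A' R' L' := IsScalarTower.of_algebraMap_eq fun _ => rfl
  haveI : IsScalarTower A' K' L' := IsScalarTower.of_algebraMap_eq fun x =>
    (IsFractionRing.lift_algebraMap (K := K') hA'L' x).symm
  haveI : IsScalarTower K K' L' := IsScalarTower.of_algebraMap_eq' (IsLocalization.ringHom_ext (nonZeroDivisors A)
    (RingHom.ext fun x => by
      show algebraMap L L' (algebraMap K L (algebraMap A K x)) = algebraMap K' L' (algebraMap K K' (algebraMap A K x))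
      rw [← IsScalarTower.algebraMap_apply A K L, ← IsScalarTower.algebraMap_apply A K K',
        IsScalarTower.algebraMap_apply A A' K', ← IsScalarTower.algebraMap_apply A' K' L',
        IsScalarTower.algebraMap_apply A R L, ← IsScalarTower.algebraMap_apply R L L',
        IsScalarTower.algebraMap_apply R R' L', ← IsScalarTower.algebraMap_apply A R R']
      exact congrArg (algebraMap R' L') (g.commutes x).symm))
  exact (HasModel.baseChange (h2 K') R' L').congr
    ((Algebra.TensorProduct.cancelBaseChange K K' L' L' E).trans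
      (Algebra.TensorProduct.cancelBaseChange K L L' L' E).symm)

/-- A model over a Kummer extension with `p`-power exponents descends, given a model at the
characteristic `p` points in codimension one. -/
theorem hasModel_descend (A : Type u) [CommRing A] [IsRegularLocalRing A] [IsDomain A] (K : Type u) [Field K]
    [Algebra A K] [IsFractionRing A K] (E : Type u) [CommRing E] [Algebra K E] [Module.Finite K E]
    [Algebra.Etale K E] {r : ℕ} (T₀ : Fin r → A) (hm : ∀ i, T₀ i ∈ maximalIdeal A)
    (hli : LinearIndependent (ResidueField A) (fun i => (maximalIdeal A).toCotangent ⟨T₀ i, hm i⟩))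
    (p : ℕ) [Fact p.Prime] (hp : (p : A) ∈ maximalIdeal A) (hp0 : (p : A) ≠ 0) (a : Fin r → ℕ)
    (h1 : ∀ (P : Ideal A) [P.IsPrime], P.height = 1 → (p : A) ∈ P → ∀ (R : Type u) [CommRing R] [Algebra A R]
      [IsLocalization.AtPrime R P] [Algebra R K] [IsScalarTower A R K], HasModel R K E)
    (h2 : ∀ (K' : Type u) [Field K'] [Algebra (SGA1.kummerAlg A T₀ (fun i => p ^ a i)) K']
      [IsFractionRing (SGA1.kummerAlg A T₀ (fun i => p ^ a i)) K'] [Algebra K K'] [Algebra A K']
      [IsScalarTower A (SGA1.kummerAlg A T₀ (fun i => p ^ a i)) K'] [IsScalarTower A K K'],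
      HasModel (SGA1.kummerAlg A T₀ (fun i => p ^ a i)) K' (K' ⊗[K] E)) :
    HasModel A K E := by
  classical
  let n : Fin r → ℕ := fun i => p ^ a i
  have hn : ∀ i, 1 ≤ n i := fun i => Nat.one_le_pow _ _ (Fact.out : p.Prime).pos
  obtain ⟨R, _, _, _, _, hsh⟩ := Groth.Agent.S0537.result A
  haveI := hsh
  haveI : Module.FaithfullyFlat A R := Groth.Agent.S0539.result A R
  haveI : IsRegularLocalRing R := (Groth.Agent.S2743.result A R).2 inferInstance
  haveI := RegLoc6.isDomain_of_isRegularLocalRing R
  haveI := RegLoc6.isIntegrallyClosed_of_isRegularLocalRing R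
  have hinjAR : Function.Injective (algebraMap A R) := FaithfulSMul.algebraMap_injective A R
  let f : Fin r → R := fun i => algebraMap A R (T₀ i)
  have hmR : ∀ i, f i ∈ maximalIdeal R := fun i => map_nonunit (algebraMap A R) _ (hm i)
  have hliR : LinearIndependent (ResidueField R) (fun i => (maximalIdeal R).toCotangent ⟨f i, hmR i⟩) :=
    linearIndependent_cotangent_map T₀ hm hli hmR (Groth.Agent.S0538.result A R) (Groth.Agent.S0541.result A R)
  let R' := SGA1.kummerAlg R f n
  haveI : IsRegularLocalRing R' := KummerReg24.isRegularLocalRing R f hn hmR hliR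
  haveI := RegLoc6.isDomain_of_isRegularLocalRing R'
  haveI : Algebra.IsIntegral R R' := KummerReg24.isIntegral R f hn
  have hinjRR' : Function.Injective (algebraMap R R') := KummerReg24.injective_algebraMap R f hn
  have hfinR : (algebraMap R R').Finite := RingHom.finite_algebraMap.2 Algebra.IsIntegral.finite
  haveI : IsLocalHom (algebraMap R R') := ((IsLocalRing.local_hom_TFAE _).out 0 4).2
    (IsLocalRing.eq_maximalIdeal (Ideal.isMaximal_comap_of_isIntegral_of_isMaximal (maximalIdeal R')))
  haveI : HenselianLocalRing R := hsh.henselian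
  haveI : IsSepClosed (ResidueField R) := hsh.isSepClosure.sep_closed
  obtain ⟨hh', hsc'⟩ := Groth.Agent.S14620.result (algebraMap R R') hfinR ⟨inferInstance, inferInstance⟩
  haveI := hh'
  haveI := hsc'
  let L := FractionRing R
  obtain ⟨L', _, _, _, _, _, _, _⟩ := exists_fraction_field R R' L hinjRR'
  let Ω := AlgebraicClosure L'
  have hAL : Function.Injective (algebraMap A L) := by
    rw [IsScalarTower.algebraMap_eq A R L]
    exact (IsFractionRing.injective R L).comp hinjAR
  letI : Algebra K L := (IsFractionRing.lift (A := A) (K := K) hAL).toAlgebra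
  haveI : IsScalarTower A K L := IsScalarTower.of_algebraMap_eq fun x =>
    (IsFractionRing.lift_algebraMap (K := K) hAL x).symm
  haveI : IsRegularLocalRing (SGA1.kummerAlg A T₀ n) := KummerReg24.isRegularLocalRing A T₀ hn hm hli
  haveI := RegLoc6.isDomain_of_isRegularLocalRing (SGA1.kummerAlg A T₀ n)
  haveI : Algebra.IsIntegral A (SGA1.kummerAlg A T₀ n) := KummerReg24.isIntegral A T₀ hn
  haveI : IsScalarTower A R R' := inferInstance
  obtain ⟨g, -⟩ := KummerReg24.exists_algHom A T₀ n (S := R') (fun i => KummerReg24.T R f n i)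
    fun i => (KummerReg24.T_pow R f n i).trans (IsScalarTower.algebraMap_apply A R R' (T₀ i)).symm
  have hM : HasModel R' L' (L' ⊗[L] (L ⊗[K] E)) := hasModel_square A (SGA1.kummerAlg A T₀ n) R R'
    (KummerReg24.injective_algebraMap A T₀ hn) hinjAR hinjRR' g K L L' E h2
  -- a prime of height one containing `p`
  have hpR : (p : R) ∈ maximalIdeal R := map_natCast (algebraMap A R) p ▸ map_nonunit (algebraMap A R) _ hp
  have hpR0 : (p : R) ≠ 0 := fun h0 => hp0 (hinjAR (by rw [map_natCast, h0, map_zero]))
  have hdim1 : (1 : WithBot ℕ∞) ≤ ringKrullDim R := by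
    rw [← IsLocalRing.maximalIdeal_height_eq_ringKrullDim, ← WithBot.coe_one, WithBot.coe_le_coe,
      Order.one_le_iff_pos, pos_iff_ne_zero]
    intro hz
    have := Ideal.height_strict_mono_of_isPrime_of_isPrime
      (bot_lt_iff_ne_bot.2 fun hb : maximalIdeal R = ⊥ => hpR0 (Ideal.mem_bot.1 (hb ▸ hpR)))
    rw [hz] at this
    exact not_lt_zero this
  obtain ⟨P, hP, hpP, hP1⟩ := Groth.Agent.S0249.result R hdim1 (p : R) hpR
  haveI := hP
  let P₀ := P.comap (algebraMap A R)
  haveI : P₀.IsPrime := Ideal.comap_isPrime _ _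
  haveI : P.LiesOver P₀ := ⟨rfl⟩
  have hpP₀ : (p : A) ∈ P₀ := by rw [Ideal.mem_comap, map_natCast]; exact hpP
  have hP₀1 : P₀.height = 1 := by
    refine le_antisymm ?_ ?_
    · rw [← hP1, Ideal.height_eq_height_add_of_liesOver_of_hasGoingDown P₀ P]
      exact le_self_add
    · rw [Order.one_le_iff_pos, pos_iff_ne_zero]
      intro hz
      have := Ideal.height_strict_mono_of_isPrime_of_isPrime
        (bot_lt_iff_ne_bot.2 fun hb : P₀ = ⊥ => hp0 (Ideal.mem_bot.1 (hb ▸ hpP₀)))
      rw [hz] at this
      exact not_lt_zero this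
  let R₀ := Localization.AtPrime P₀
  have hu : ∀ y : P₀.primeCompl, IsUnit (algebraMap A K y) := fun y =>
    isUnit_iff_ne_zero.2 (IsFractionRing.to_map_ne_zero_of_mem_nonZeroDivisors
      (P₀.primeCompl_le_nonZeroDivisors y.2))
  letI : Algebra R₀ K := (IsLocalization.lift (M := P₀.primeCompl) (S := R₀) hu).toAlgebra
  haveI : IsScalarTower A R₀ K := IsScalarTower.of_algebraMap_eq fun a => (IsLocalization.lift_eq hu a).symm
  let RP := Localization.AtPrime P
  have huP : ∀ y : P.primeCompl, IsUnit (algebraMap R L y) := fun y =>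
    isUnit_iff_ne_zero.2 (IsFractionRing.to_map_ne_zero_of_mem_nonZeroDivisors
      (P.primeCompl_le_nonZeroDivisors y.2))
  letI : Algebra RP L := (IsLocalization.lift (M := P.primeCompl) (S := RP) huP).toAlgebra
  haveI : IsScalarTower R RP L := IsScalarTower.of_algebraMap_eq fun a => (IsLocalization.lift_eq huP a).symm
  letI := Localization.AtPrime.algebraOfLiesOver P₀ P
  letI : Algebra R₀ L := ((algebraMap RP L).comp (algebraMap R₀ RP)).toAlgebra
  haveI : IsScalarTower R₀ RP L := IsScalarTower.of_algebraMap_eq fun _ => rfl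
  haveI : IsScalarTower R₀ K L := IsScalarTower.of_algebraMap_eq' (IsLocalization.ringHom_ext P₀.primeCompl
    (RingHom.ext fun x => by
      show algebraMap RP L (algebraMap R₀ RP (algebraMap A R₀ x)) = algebraMap K L (algebraMap R₀ K (algebraMap A R₀ x))
      rw [← IsScalarTower.algebraMap_apply A R₀ K, ← IsScalarTower.algebraMap_apply A K L,
        ← IsScalarTower.algebraMap_apply A R₀ RP, IsScalarTower.algebraMap_apply A R RP,
        ← IsScalarTower.algebraMap_apply R RP L, ← IsScalarTower.algebraMap_apply A R L]))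
  have hP' : HasModel RP L (L ⊗[K] E) := (h1 P₀ hP₀1 hpP₀ R₀).baseChange RP L
  obtain ⟨hfin, ⟨e⟩⟩ := exists_split_of_points L Ω (L ⊗[K] E)
    (mem_range_of_models f p a L L' Ω (L ⊗[K] E) P hpP RP hM hP')
  haveI := hfin
  letI : Algebra A E := Algebra.compHom E (algebraMap A K)
  haveI : IsScalarTower A K E := IsScalarTower.of_algebraMap_eq fun _ => rfl
  obtain ⟨hf, het⟩ := ShDesc24.finite_etale_integralClosure A R K L (Groth.Agent.S12237.result A R) E e
  haveI := hf
  haveI := het
  haveI : Algebra.IsIntegral K E := Algebra.IsIntegral.of_finite K E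
  exact hasModel_of_etale_integralClosure A K E

end Groth.Agent.Abh24
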