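import Groth.Agent.Abh24.Purity
import Groth.Agent.EtRam7.TameChar
import Groth.Agent.EtRam7.Unram

/-!
# Models over Kummer extensions of a discrete valuation ring
-/

set_option autoImplicit false
set_option backward.isDefEq.respectTransparency false
set_option backward.isDefEq.respectTransparency.types false
set_option linter.style.haveILetI false
set_option maxHeartbeats 2000000

universe u

open IsLocalRing Polynomial TensorProduct

namespace Groth.Agent.Abh24

open Groth.Agent.EtRam7

/-- Tame, with all ramification indices dividing `e`. -/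
def TameBy (A : Type u) [CommRing A] [IsDomain A] [IsDiscreteValuationRing A] {L : Type u} [Field L]
    (g : A →+* L) (e : ℕ) : Prop :=
  EtRam.IsTamelyRamified A g ∧ ∀ (V : ValuationSubring L) (hV : EtRam.Dominates A g V),
    letI : Algebra A V := (g.codRestrict V hV.1).toAlgebra
    Ideal.ramificationIdx' (maximalIdeal A) (maximalIdeal V) ∣ e

variable {A K L : Type u} [CommRing A] [IsDomain A] [IsDiscreteValuationRing A] [Field K] [Algebra A K]
  [IsFractionRing A K] [Field L] [Algebra K L] [Algebra A L] [IsScalarTower A K L] [FiniteDimensional K L]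
  [Algebra.IsSeparable K L]

/-- Abhyankar: every compositum with the Kummer extension is unramified over the Kummer ring. -/
theorem isUnramifiedExt_compositum (π : A) (hπ : maximalIdeal A = Ideal.span {π}) (e : ℕ) (he0 : 0 < e)
    (he : (e : ResidueField A) ≠ 0) (ht : TameBy A (algebraMap A L) e)
    [IsLocalRing (AdjoinRoot (X ^ e - C π : A[X]))]
    (K' : Type u) [Field K'] [Algebra (AdjoinRoot (X ^ e - C π : A[X])) K']
    [IsFractionRing (AdjoinRoot (X ^ e - C π : A[X])) K'] [Algebra K K'] [Algebra A K'] [IsScalarTower A K K']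
    [IsScalarTower A (AdjoinRoot (X ^ e - C π : A[X])) K'] [FiniteDimensional K K']
    (L' : Type u) [Field L'] [Algebra K L'] [Algebra L L'] [Algebra K' L'] [IsScalarTower K L L']
    [IsScalarTower K K' L'] [FiniteDimensional K L'] [Algebra (AdjoinRoot (X ^ e - C π : A[X])) L']
    [IsScalarTower (AdjoinRoot (X ^ e - C π : A[X])) K' L']
    (hgen : Algebra.adjoin L (Set.range (algebraMap K' L')) = ⊤) :
    EtRam.IsUnramifiedExt (AdjoinRoot (X ^ e - C π : A[X]))
      (algebraMap (AdjoinRoot (X ^ e - C π : A[X])) L') := by
  classical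
  have hπi : Irreducible π := (IsDiscreteValuationRing.irreducible_iff_uniformizer π).2 hπ
  obtain ⟨hdom, hdvr, hfinA, hinjA', hmaxA', hrn, hsplit⟩ := exists_kummerRing A π hπi e he0
  obtain ⟨h, hdiv⟩ := ht
  let f : A[X] := X ^ e - C π
  let A' := AdjoinRoot f
  let r : A' := AdjoinRoot.root f
  let ρ : K' := algebraMap A' K' r
  have hρ : ρ ^ e = algebraMap K K' (algebraMap A K π) := by
    rw [← IsScalarTower.algebraMap_apply A K K', IsScalarTower.algebraMap_apply A A' K', ← hrn]
    exact (map_pow (algebraMap A' K') r e).symm
  have hcompat : (algebraMap A' L').comp (AdjoinRoot.of f) = (algebraMap K L').comp (algebraMap A K) := by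
    ext a
    show algebraMap A' L' (algebraMap A A' a) = algebraMap K L' (algebraMap A K a)
    rw [IsScalarTower.algebraMap_apply A' K' L', ← IsScalarTower.algebraMap_apply A A' K',
      IsScalarTower.algebraMap_apply A K K', ← IsScalarTower.algebraMap_apply K K' L']
  intro W hW
  letI : Algebra A' W := ((algebraMap A' L').codRestrict W hW.1).toAlgebra
  intro hlocW
  have hAA' : ∀ a ∈ maximalIdeal A, algebraMap A A' a ∈ maximalIdeal A' := fun a ha => by
    rw [hmaxA', Ideal.mem_span_singleton]
    obtain ⟨c, rfl⟩ := Ideal.mem_span_singleton.1 (hπ ▸ ha)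
    rw [map_mul, ← hrn]
    exact (dvd_pow_self _ he0.ne').mul_right _
  let gA : A →+* L' := (algebraMap A' L').comp (algebraMap A A')
  have hgA : gA = (algebraMap L L').comp (algebraMap A L) := by
    rw [show gA = (algebraMap K L').comp (algebraMap A K) from hcompat, IsScalarTower.algebraMap_eq A K L,
      ← RingHom.comp_assoc, ← IsScalarTower.algebraMap_eq K L L']
  have hdomA : EtRam.Dominates A gA W := ⟨fun a => hW.1 _, fun a ha => hW.2 _ (hAA' a ha)⟩
  let V := W.comap (algebraMap L L')
  have hV : EtRam.Dominates A (algebraMap A L) V := dominates_comap _ _ W (hgA ▸ hdomA)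
  have hV' : EtRam.Dominates A ((algebraMap K L).comp (algebraMap A K)) V := by
    rwa [← IsScalarTower.algebraMap_eq]
  haveI := isDiscreteValuationRing_of_dominates V hV'
  letI : Algebra A V := ((algebraMap A L).codRestrict V hV.1).toAlgebra
  haveI : IsScalarTower A V L := IsScalarTower.of_algebraMap_eq fun _ => rfl
  haveI hlocV : IsLocalHom (algebraMap A V) := isLocalHom_of_dominates _ V hV
  have hinjV : Function.Injective (algebraMap A V) := fun a b he' =>
    IsFractionRing.injective A K ((algebraMap K L).injective (by
      rw [← IsScalarTower.algebraMap_apply A K L, ← IsScalarTower.algebraMap_apply A K L]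
      exact congrArg Subtype.val he'))
  haveI : IsFractionRing V L := inferInstance
  obtain ⟨htame1, htame2⟩ := h V hV
  have heV := hdiv V hV
  haveI : Algebra.IsGeometricallyReduced (ResidueField A) (ResidueField V) :=
    haveI := finite_residueField_of_dominates (A := A) (K := K) V
    haveI := htame1
    haveI : Algebra.FormallyUnramified (ResidueField A) (ResidueField V) :=
      (Algebra.FormallyUnramified.iff_isSeparable _ _).2 htame1
    SmoothingLib.GeomDiff.isGeometricallyReduced_of_formallyUnramified _ _
  have heV0 : IsUnit ((Ideal.ramificationIdx' (maximalIdeal A) (maximalIdeal V) : ℕ) : ResidueField A) := by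
    refine isUnit_iff_ne_zero.2 fun h0 => he ?_
    obtain ⟨d, hd⟩ := heV
    rw [hd, Nat.cast_mul, h0, zero_mul]
  let fK : K' →+* L' := algebraMap K' L'
  have hVdom : EtRam.Dominates V ((algebraMap L L').comp (algebraMap V L)) W := dominates_self_comap (algebraMap L L') W
  have hA' : ∀ a : A, (algebraMap K K') (algebraMap A K a) ∈ W.comap fK := fun a => by
    show fK _ ∈ W
    rw [show fK (algebraMap K K' (algebraMap A K a)) = algebraMap K L' (algebraMap A K a) from
      (IsScalarTower.algebraMap_apply K K' L' _).symm, show algebraMap K L' (algebraMap A K a) = gA a from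
      (RingHom.congr_fun hcompat a).symm]
    exact hdomA.1 a
  have habh := abhyankar A V K L hinjV heV0 K' L' hgen W hVdom hA'
  have hU : EtRam.Dominates A ((algebraMap A' K').comp (algebraMap A A')) (W.comap fK) := by
    refine dominates_comap _ fK W ?_
    rw [← RingHom.comp_assoc, ← IsScalarTower.algebraMap_eq A' K' L']
    exact hdomA
  obtain ⟨hUmem, hUsurj, hUloc⟩ := kummer_maximalIdeal π hπ r e he0 hmaxA' hrn (W.comap fK) hU
  let U := W.comap fK
  let ι : A' →+* U := (algebraMap A' K').codRestrict U hUmem
  haveI : IsLocalHom ι := hUloc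
  letI : Algebra A U := (((algebraMap K K').comp (algebraMap A K)).codRestrict U hA').toAlgebra
  letI : Algebra U W := (EtRam.inclOfComap W fK).toAlgebra
  have hrm : r ∈ maximalIdeal A' := by rw [hmaxA']; exact Ideal.mem_span_singleton_self r
  have hmU : maximalIdeal U = Ideal.span {ι r} := by
    refine le_antisymm (fun x hx => ?_) ((Ideal.span_singleton_le_iff_mem _).2 (map_nonunit ι r hrm))
    obtain ⟨b, rfl⟩ := hUsurj x
    have hb : b ∈ maximalIdeal A' := fun hu => hx (hu.map ι)
    rw [hmaxA', Ideal.mem_span_singleton] at hb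
    obtain ⟨c, rfl⟩ := hb
    rw [show (algebraMap A' K').codRestrict U hUmem = ι from rfl, map_mul]
    exact Ideal.mul_mem_right _ _ (Ideal.mem_span_singleton_self _)
  haveI hUdvr : IsDiscreteValuationRing U :=
    isDiscreteValuationRing_of_dominates_finite U (show EtRam.Dominates A ((algebraMap K K').comp (algebraMap A K)) U from
      ⟨hA', fun a ha => by
        have := hU.2 a ha
        rwa [RingHom.comp_apply, ← IsScalarTower.algebraMap_apply A A' K', IsScalarTower.algebraMap_apply A K K'] at this⟩)
  have hιπ : algebraMap A U π = ι r ^ e := by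
    refine Subtype.ext ?_
    show algebraMap K K' (algebraMap A K π) = ((ι r ^ e : U) : K')
    rw [← hρ]; rfl
  have heU : Ideal.ramificationIdx' (maximalIdeal A) (maximalIdeal U) = e := by
    have hri : Irreducible (ι r) := (IsDiscreteValuationRing.irreducible_iff_uniformizer _).2 hmU
    refine Ideal.ramificationIdx'_spec ?_ ?_
    · rw [hπ, Ideal.map_span, Set.image_singleton, hιπ, hmU, Ideal.span_singleton_pow]
    · rw [hπ, Ideal.map_span, Set.image_singleton, hιπ, hmU, Ideal.span_singleton_pow,
        Ideal.span_singleton_le_span_singleton, pow_dvd_pow_iff hri.ne_zero hri.1]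
      omega
  obtain ⟨hweak, hgr⟩ := habh (heU.symm ▸ heV)
  have hfac : ∀ b, algebraMap A' W b = EtRam.inclOfComap W fK (ι b) := fun b =>
    Subtype.ext (IsScalarTower.algebraMap_apply A' K' L' b)
  refine ⟨?_, ?_⟩
  · unfold EtRam.IsWeaklyUnramified at hweak ⊢
    rw [hmU, Ideal.map_span, Set.image_singleton] at hweak
    rw [hmaxA', Ideal.map_span, Set.image_singleton, hfac, ← hweak]
    rfl
  · letI : Algebra A' U := ι.toAlgebra
    haveI : IsLocalHom (algebraMap A' U) := hUloc
    haveI : IsScalarTower A' U W := IsScalarTower.of_algebraMap_eq hfac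
    haveI : IsLocalHom (algebraMap U W) := EtRam.isLocalHom_inclOfComap W fK
    haveI : IsScalarTower (ResidueField A') (ResidueField U) (ResidueField W) := IsScalarTower.of_algebraMap_eq fun x => by
      obtain ⟨b, rfl⟩ := residue_surjective x
      exact congrArg (residue W) (hfac b)
    haveI : Algebra.IsSeparable (ResidueField A') (ResidueField U) := ⟨fun y => by
      obtain ⟨y, rfl⟩ := residue_surjective y
      obtain ⟨b, rfl⟩ := hUsurj y
      exact isSeparable_algebraMap (residue A' b)⟩
    haveI : Module.Finite K' L' := Module.Finite.of_restrictScalars_finite K K' L'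
    haveI := isDiscreteValuationRing_of_dominates_finite (A := A') (K := K') W
      (by rwa [← IsScalarTower.algebraMap_eq])
    haveI : IsScalarTower A' W L' := IsScalarTower.of_algebraMap_eq fun _ => rfl
    haveI := finite_residueField_of_dominates (A := A') (K := K') W
    haveI : Module.Finite (ResidueField U) (ResidueField W) :=
      Module.Finite.of_restrictScalars_finite (ResidueField A') (ResidueField U) (ResidueField W)
    haveI : Algebra.IsGeometricallyReduced (ResidueField U) (ResidueField W) := by
      convert hgr using 1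
      exact Algebra.algebra_ext _ _ fun c => by
        obtain ⟨c, rfl⟩ := residue_surjective c
        rfl
    haveI : Algebra.IsSeparable (ResidueField U) (ResidueField W) := isSeparable_of_isGeometricallyReduced
    exact Algebra.IsSeparable.trans (ResidueField A') (ResidueField U) (ResidueField W)

omit [IsDomain A] [IsDiscreteValuationRing A] in
/-- An étale integral closure is a model. -/
theorem hasModel_of_etale_integralClosure (A K M : Type u) [CommRing A] [IsDomain A] [Field K] [Algebra A K]
    [IsFractionRing A K] [CommRing M] [Algebra K M] [Algebra A M] [IsScalarTower A K M] [Algebra.IsIntegral K M]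
    [Module.Finite A (integralClosure A M)] [Algebra.Etale A (integralClosure A M)] : HasModel A K M := by
  let C := integralClosure A M
  haveI : IsLocalization (Algebra.algebraMapSubmonoid C (nonZeroDivisors A)) M := by
    constructor
    constructor
    · rintro ⟨_, a, ha, rfl⟩
      show IsUnit (algebraMap A M a)
      rw [IsScalarTower.algebraMap_apply A K M]
      exact (IsUnit.mk0 _ (IsFractionRing.to_map_ne_zero_of_mem_nonZeroDivisors ha)).map _
    · intro z
      obtain ⟨⟨a, ha⟩, hint⟩ := IsIntegral.exists_multiple_integral_of_isLocalization (nonZeroDivisors A) z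
        (Algebra.IsIntegral.isIntegral (R := K) z)
      refine ⟨⟨⟨_, hint⟩, ⟨_, a, ha, rfl⟩⟩, ?_⟩
      show z * algebraMap A M a = a • z
      rw [Algebra.smul_def, mul_comm]
    · intro x y hxy
      exact ⟨1, by rw [Subtype.ext hxy]⟩
  haveI : Algebra.IsPushout A K C M := (Algebra.isPushout_of_isLocalization (nonZeroDivisors A) K C M).symm
  exact ⟨C, inferInstance, inferInstance, inferInstance, inferInstance, ⟨Algebra.IsPushout.equiv A K C M⟩⟩

omit [FiniteDimensional K L] [Algebra.IsSeparable K L] in
/-- A tame finite étale algebra has a model over the Kummer ring. -/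
theorem hasModel_kummer (E : Type u) [CommRing E] [Algebra K E] [Algebra A E] [IsScalarTower A K E]
    [Module.Finite K E] [Algebra.Etale K E] (π : A) (hπ : maximalIdeal A = Ideal.span {π}) (e : ℕ) (he0 : 0 < e)
    (he : (e : ResidueField A) ≠ 0)
    (h : ∀ Q : MaximalSpectrum E, letI : Field (E ⧸ Q.asIdeal) := Ideal.Quotient.field Q.asIdeal
      TameBy A (algebraMap A (E ⧸ Q.asIdeal)) e)
    (K' : Type u) [Field K'] [Algebra (AdjoinRoot (X ^ e - C π : A[X])) K']
    [IsFractionRing (AdjoinRoot (X ^ e - C π : A[X])) K'] [Algebra K K'] [Algebra A K'] [IsScalarTower A K K']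
    [IsScalarTower A (AdjoinRoot (X ^ e - C π : A[X])) K'] :
    HasModel (AdjoinRoot (X ^ e - C π : A[X])) K' (K' ⊗[K] E) := by
  classical
  have hπi : Irreducible π := (IsDiscreteValuationRing.irreducible_iff_uniformizer π).2 hπ
  obtain ⟨hdom, hdvr, hfinA, hinjA', -⟩ := exists_kummerRing A π hπi e he0
  haveI := hdom
  haveI := hdvr
  haveI := hfinA
  let A' := AdjoinRoot (X ^ e - Polynomial.C π : A[X])
  haveI : FiniteDimensional K K' := by
    haveI : Algebra.IsIntegral A A' := Algebra.IsIntegral.of_finite A A'
    haveI : FaithfulSMul A A' := (faithfulSMul_iff_algebraMap_injective A A').2 hinjA'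
    haveI : Algebra.IsAlgebraic A A' := Algebra.IsIntegral.isAlgebraic
    haveI : IsLocalization (Algebra.algebraMapSubmonoid A' (nonZeroDivisors A)) K' := inferInstance
    exact .of_isLocalization A A' (nonZeroDivisors A)
  let E' := K' ⊗[K] E
  obtain ⟨hfin, Φ, -⟩ := exists_piEquiv K' E'
  haveI := hfin
  suffices H : ∀ Q : MaximalSpectrum E', HasModel A' K' (E' ⧸ Q.asIdeal) from (HasModel.pi H).congr Φ.symm
  intro Q'
  let M := E' ⧸ Q'.asIdeal
  letI : Field M := Ideal.Quotient.field Q'.asIdeal
  haveI : Module.Finite K' M := Module.Finite.of_surjective (Ideal.Quotient.mkₐ K' Q'.asIdeal).toLinearMap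
    Ideal.Quotient.mk_surjective
  haveI : Algebra.FormallyUnramified K' M :=
    Algebra.FormallyUnramified.of_surjective (Ideal.Quotient.mkₐ K' Q'.asIdeal) Ideal.Quotient.mk_surjective
  haveI : Algebra.IsSeparable K' M := (Algebra.FormallyUnramified.iff_isSeparable K' M).1 inferInstance
  haveI : IsScalarTower K K' M := inferInstance
  haveI : Module.Finite K M := Module.Finite.trans K' M
  haveI : IsScalarTower A' K' M := inferInstance
  let ψ : E →ₐ[K] M :=
    { toRingHom := (Ideal.Quotient.mk Q'.asIdeal).comp
        (Algebra.TensorProduct.includeRight : E →ₐ[K] E').toRingHom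
      commutes' := fun k => congrArg (Ideal.Quotient.mk Q'.asIdeal)
        ((Algebra.TensorProduct.includeRight : E →ₐ[K] E').commutes k) }
  haveI := IsArtinianRing.of_finite K E
  haveI : (RingHom.ker ψ).IsPrime := RingHom.ker_isPrime ψ
  let Q : MaximalSpectrum E := ⟨RingHom.ker ψ, IsArtinianRing.isMaximal_of_isPrime _⟩
  let L₀ := E ⧸ Q.asIdeal
  letI : Field L₀ := Ideal.Quotient.field Q.asIdeal
  haveI : Module.Finite K L₀ := Module.Finite.of_surjective (Ideal.Quotient.mkₐ K Q.asIdeal).toLinearMap
    Ideal.Quotient.mk_surjective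
  haveI : Algebra.FormallyUnramified K L₀ :=
    Algebra.FormallyUnramified.of_surjective (Ideal.Quotient.mkₐ K Q.asIdeal) Ideal.Quotient.mk_surjective
  haveI : Algebra.IsSeparable K L₀ := (Algebra.FormallyUnramified.iff_isSeparable K L₀).1 inferInstance
  let j : L₀ →ₐ[K] M := Ideal.Quotient.liftₐ Q.asIdeal ψ fun a ha => ha
  letI : Algebra L₀ M := j.toRingHom.toAlgebra
  haveI : IsScalarTower K L₀ M := IsScalarTower.of_algebraMap_eq fun k => (j.commutes k).symm
  have hgen : Algebra.adjoin L₀ (Set.range (algebraMap K' M)) = ⊤ := by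
    refine top_le_iff.1 fun z _ => ?_
    obtain ⟨z, rfl⟩ := Ideal.Quotient.mk_surjective z
    induction z using TensorProduct.induction_on with
    | zero => rw [map_zero]; exact zero_mem _
    | add a b ha hb => rw [map_add]; exact add_mem (ha trivial) (hb trivial)
    | tmul k x =>
      rw [show k ⊗ₜ[K] x = (k ⊗ₜ[K] (1 : E)) * ((1 : K') ⊗ₜ[K] x) by simp, map_mul]
      exact mul_mem (Algebra.subset_adjoin ⟨k, rfl⟩)
        (Subalgebra.algebraMap_mem _ (Ideal.Quotient.mk Q.asIdeal x))
  have hu := isUnramifiedExt_compositum (A := A) (K := K) (L := L₀) π hπ e he0 he (h Q) K' M hgen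
  haveI : Algebra.FormallyUnramified A' (integralClosure A' M) :=
    formallyUnramified_integralClosure A' K' M hu
  haveI : Module.Finite A' (integralClosure A' M) := IsIntegralClosure.finite A' K' M _
  haveI : Module.IsTorsionFree A' (integralClosure A' M) := by
    rw [Module.isTorsionFree_iff_algebraMap_injective]
    intro a b hab
    exact IsFractionRing.injective A' K' ((algebraMap K' M).injective (congrArg Subtype.val hab))
  haveI : Algebra.FinitePresentation A' (integralClosure A' M) :=
    Algebra.FinitePresentation.of_finiteType.mp inferInstance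
  haveI : Algebra.Etale A' (integralClosure A' M) := Algebra.Etale.of_formallyUnramified_of_flat
  haveI : Algebra.IsIntegral K' M := Algebra.IsIntegral.of_finite K' M
  exact hasModel_of_etale_integralClosure A' K' M

end Groth.Agent.Abh24
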