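import Groth.Agent.Abh24.Descent

/-!
# The absolute Abhyankar lemma, algebraic form
-/

set_option autoImplicit false
set_option backward.isDefEq.respectTransparency false
set_option backward.isDefEq.respectTransparency.types false
set_option linter.style.haveILetI false
set_option maxHeartbeats 1000000

universe u

open TensorProduct IsLocalRing Polynomial

namespace Groth.Agent.Abh24

theorem TameBy.mono {A : Type u} [CommRing A] [IsDomain A] [IsDiscreteValuationRing A] {L : Type u} [Field L]
    {g : A →+* L} {e e' : ℕ} (h : TameBy A g e) (hd : e ∣ e') : TameBy A g e' :=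
  ⟨h.1, fun V hV => (h.2 V hV).trans hd⟩

theorem height_le_one_of_mem_span {A : Type u} [CommRing A] [IsNoetherianRing A] (x : A)
    [(Ideal.span {x}).IsPrime] : (Ideal.span {x}).height ≤ 1 := by
  exact Ideal.height_le_one_of_isPrincipal_of_mem_minimalPrimes (Ideal.span {x}) (Ideal.span {x})
    ⟨⟨inferInstance, le_rfl⟩, fun q hq _ => hq.2⟩

theorem height_eq_one_of_span {A : Type u} [CommRing A] [IsDomain A] [IsNoetherianRing A] {x : A} (hx : x ≠ 0)
    [(Ideal.span {x}).IsPrime] : (Ideal.span {x}).height = 1 := by
  refine le_antisymm (height_le_one_of_mem_span x) ?_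
  rw [Order.one_le_iff_pos, pos_iff_ne_zero]
  intro hz
  have := Ideal.height_strict_mono_of_isPrime_of_isPrime (I := ⊥) (J := Ideal.span {x})
    (bot_lt_iff_ne_bot.2 fun hb => hx (Ideal.mem_bot.1 (hb ▸ Ideal.mem_span_singleton_self x)))
  rw [hz] at this
  exact not_lt_zero this

/-- The local ring at a prime generated by a parameter is a discrete valuation ring. -/
theorem isDVR_localization_span (A : Type u) [CommRing A] [IsRegularLocalRing A] [IsDomain A] (x : A) (hx : x ≠ 0)
    [(Ideal.span {x}).IsPrime] :
    IsDiscreteValuationRing (Localization.AtPrime (Ideal.span {x})) ∧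
      maximalIdeal (Localization.AtPrime (Ideal.span {x})) =
        Ideal.span {algebraMap A (Localization.AtPrime (Ideal.span {x})) x} := by
  let R := Localization.AtPrime (Ideal.span {x})
  have hmax : maximalIdeal R = Ideal.span {algebraMap A R x} := by
    rw [← Localization.AtPrime.map_eq_maximalIdeal, Ideal.map_span, Set.image_singleton]
  haveI := RegLoc6.isRegularLocalRing_localization A (Ideal.span {x})
  haveI : IsPrincipalIdealRing R := Groth.Agent.DimFormula.isPrincipalIdealRing_of_regular_dim_le_one (by
    rw [IsLocalization.AtPrime.ringKrullDim_eq_height (Ideal.span {x}) R, height_eq_one_of_span hx]; rfl)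
  refine ⟨{ not_a_field' := fun h0 => hx ?_ }, hmax⟩
  rw [hmax, Ideal.span_singleton_eq_bot] at h0
  exact IsLocalization.injective R (Ideal.span {x}).primeCompl_le_nonZeroDivisors (h0.trans (map_zero _).symm)

/-- A model of a tame algebra at a height one prime of a Kummer extension. -/
theorem hasModel_kummer_prime (A : Type u) [CommRing A] [IsRegularLocalRing A] [IsDomain A] {r : ℕ}
    (f : Fin r → A) (hm : ∀ i, f i ∈ maximalIdeal A)
    (hf : LinearIndependent (ResidueField A) (fun i => (maximalIdeal A).toCotangent ⟨f i, hm i⟩))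
    [∀ i, (Ideal.span {f i}).IsPrime] (K : Type u) [Field K] [Algebra A K] [IsFractionRing A K]
    (E : Type u) [CommRing E] [Algebra K E] [Module.Finite K E] [Algebra.Etale K E]
    (hoff : ∀ (P : Ideal A) [P.IsPrime], P.height = 1 → (∀ i, f i ∉ P) → ∀ (R : Type u) [CommRing R] [Algebra A R]
      [IsLocalization.AtPrime R P] [Algebra R K] [IsScalarTower A R K], HasModel R K E)
    (n : Fin r → ℕ) (hn : ∀ i, 1 ≤ n i) [IsDomain (SGA1.kummerAlg A f n)]
    [IsIntegrallyClosed (SGA1.kummerAlg A f n)] [Algebra.IsIntegral A (SGA1.kummerAlg A f n)]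
    (P : Ideal (SGA1.kummerAlg A f n)) [P.IsPrime] (hP : P.height = 1)
    (htame : ∀ i, f i ∈ P.comap (algebraMap A (SGA1.kummerAlg A f n)) →
      (n i : ResidueField (Localization.AtPrime (Ideal.span {f i}))) ≠ 0 ∧
      ∀ [IsDiscreteValuationRing (Localization.AtPrime (Ideal.span {f i}))]
        [Algebra (Localization.AtPrime (Ideal.span {f i})) K] [IsScalarTower A (Localization.AtPrime (Ideal.span {f i})) K]
        (Q : MaximalSpectrum E), letI : Field (E ⧸ Q.asIdeal) := Ideal.Quotient.field Q.asIdeal
        TameBy (Localization.AtPrime (Ideal.span {f i}))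
          ((algebraMap K (E ⧸ Q.asIdeal)).comp (algebraMap (Localization.AtPrime (Ideal.span {f i})) K)) (n i))
    (K' : Type u) [Field K'] [Algebra (SGA1.kummerAlg A f n) K'] [IsFractionRing (SGA1.kummerAlg A f n) K']
    [Algebra K K'] [Algebra A K'] [IsScalarTower A (SGA1.kummerAlg A f n) K'] [IsScalarTower A K K']
    (RP : Type u) [CommRing RP] [Algebra (SGA1.kummerAlg A f n) RP] [IsLocalization.AtPrime RP P]
    [Algebra RP K'] [IsScalarTower (SGA1.kummerAlg A f n) RP K'] :
    HasModel RP K' (K' ⊗[K] E) := by
  classical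
  haveI : IsLocalRing RP := IsLocalization.AtPrime.isLocalRing RP P
  haveI : IsFractionRing RP K' :=
    IsFractionRing.isFractionRing_of_isDomain_of_isLocalization P.primeCompl RP K'
  haveI : IsDomain RP := (IsFractionRing.injective RP K').isDomain
  haveI : FaithfulSMul A (SGA1.kummerAlg A f n) :=
    (faithfulSMul_iff_algebraMap_injective _ _).2 (KummerReg24.injective_algebraMap A f hn)
  let P₀ := P.comap (algebraMap A (SGA1.kummerAlg A f n))
  haveI : P₀.IsPrime := Ideal.comap_isPrime _ _
  haveI : P.LiesOver P₀ := ⟨rfl⟩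
  haveI := RegLoc6.isIntegrallyClosed_of_isRegularLocalRing A
  have hne : P₀ ≠ ⊥ := fun h0 => by
    have hb := Ideal.eq_bot_of_comap_eq_bot h0
    rw [hb, Ideal.height_bot] at hP
    exact zero_ne_one hP
  haveI : IsNoetherianRing (SGA1.kummerAlg A f n) := inferInstance
  have hP₀ : P₀.height = 1 := by
    refine le_antisymm ?_ ?_
    · rw [← hP, Ideal.height_eq_height_add_of_liesOver_of_hasGoingDown P₀ P]
      exact le_self_add
    · rw [Order.one_le_iff_pos, pos_iff_ne_zero]
      intro hz
      have := Ideal.height_strict_mono_of_isPrime_of_isPrime (bot_lt_iff_ne_bot.2 hne)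
      rw [hz] at this
      exact not_lt_zero this
  letI : Algebra A RP := ((algebraMap (SGA1.kummerAlg A f n) RP).comp (algebraMap A (SGA1.kummerAlg A f n))).toAlgebra
  haveI : IsScalarTower A (SGA1.kummerAlg A f n) RP :=
    IsScalarTower.of_algebraMap_eq (R := A) (S := SGA1.kummerAlg A f n) (A := RP) fun _ => rfl
  haveI : IsScalarTower A RP K' := IsScalarTower.of_algebraMap_eq fun x => by
    rw [IsScalarTower.algebraMap_apply A (SGA1.kummerAlg A f n) RP,
      ← IsScalarTower.algebraMap_apply (SGA1.kummerAlg A f n) RP K', ← IsScalarTower.algebraMap_apply]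
  have hinjA : Function.Injective (algebraMap A RP) := fun x y h => by
    refine IsFractionRing.injective A K ((algebraMap K K').injective ?_)
    rw [← IsScalarTower.algebraMap_apply, ← IsScalarTower.algebraMap_apply, IsScalarTower.algebraMap_apply A RP K', h,
      ← IsScalarTower.algebraMap_apply]
  have hu' : ∀ y : P₀.primeCompl, IsUnit (algebraMap A RP y) := fun y =>
    IsLocalization.map_units RP (⟨algebraMap A _ y, fun h => y.2 h⟩ : P.primeCompl)
  have hu : ∀ y : P₀.primeCompl, IsUnit (algebraMap A K y) := fun y =>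
    isUnit_iff_ne_zero.2 (IsFractionRing.to_map_ne_zero_of_mem_nonZeroDivisors
      (P₀.primeCompl_le_nonZeroDivisors y.2))
  by_cases hi : ∃ i, f i ∈ P₀
  · obtain ⟨i, hi⟩ := hi
    have hf0 : f i ≠ 0 := fun h0 => hf.ne_zero i (by
      have : (⟨f i, hm i⟩ : maximalIdeal A) = 0 := Subtype.ext h0
      show (maximalIdeal A).toCotangent ⟨f i, hm i⟩ = 0
      rw [this, map_zero])
    have hspan : Ideal.span {f i} = P₀ := by
      refine le_antisymm ((Ideal.span_singleton_le_iff_mem _).2 hi) ?_
      by_contra hnot
      have hlt : Ideal.span {f i} < P₀ := lt_of_le_not_ge ((Ideal.span_singleton_le_iff_mem _).2 hi) hnot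
      have h := Ideal.height_strict_mono_of_isPrime_of_isPrime hlt
      rw [hP₀, height_eq_one_of_span hf0] at h
      exact lt_irrefl _ h
    obtain ⟨hne0, ht⟩ := htame i hi
    let R := Localization.AtPrime (Ideal.span {f i})
    obtain ⟨hdvr, hmax⟩ := isDVR_localization_span A (f i) hf0
    haveI := hdvr
    letI : Algebra R K := (IsLocalization.lift (M := (Ideal.span {f i}).primeCompl) (S := R)
      (g := algebraMap A K) fun y => hu ⟨(y : A), fun h => y.2 (hspan.ge h)⟩).toAlgebra
    haveI : IsScalarTower A R K := IsScalarTower.of_algebraMap_eq fun x => (IsLocalization.lift_eq _ x).symm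
    haveI : IsFractionRing R K :=
      IsFractionRing.isFractionRing_of_isDomain_of_isLocalization (Ideal.span {f i}).primeCompl R K
    letI : Algebra R RP := (IsLocalization.lift (M := (Ideal.span {f i}).primeCompl) (S := R)
      (g := algebraMap A RP) fun y => hu' ⟨(y : A), fun h => y.2 (hspan.ge h)⟩).toAlgebra
    haveI : IsScalarTower A R RP := IsScalarTower.of_algebraMap_eq fun x => (IsLocalization.lift_eq _ x).symm
    letI : Algebra R E := Algebra.compHom E (algebraMap R K)
    haveI : IsScalarTower R K E := IsScalarTower.of_algebraMap_eq fun _ => rfl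
    let π := algebraMap A R (f i)
    have he0 : 0 < n i := hn i
    obtain ⟨hdom, hdvr', hfinA, hinjA', -⟩ := EtRam7.exists_kummerRing R π
      ((IsDiscreteValuationRing.irreducible_iff_uniformizer π).2 hmax) (n i) he0
    haveI := hdom
    haveI := hfinA
    haveI : Algebra.IsIntegral R (AdjoinRoot (X ^ n i - C π : R[X])) := Algebra.IsIntegral.of_finite _ _
    let t : RP := algebraMap (SGA1.kummerAlg A f n) RP (KummerReg24.T A f n i)
    let g : AdjoinRoot (X ^ n i - C π : R[X]) →ₐ[R] RP := AdjoinRoot.liftAlgHom _ (Algebra.ofId R RP) t (by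
      simp only [eval₂_sub, eval₂_X_pow, eval₂_C]
      show t ^ n i - algebraMap R RP (algebraMap A R (f i)) = 0
      rw [← IsScalarTower.algebraMap_apply A R RP, ← map_pow, KummerReg24.T_pow, ← IsScalarTower.algebraMap_apply,
        sub_self])
    letI : Algebra R K' := ((algebraMap RP K').comp (algebraMap R RP)).toAlgebra
    haveI : IsScalarTower R RP K' := IsScalarTower.of_algebraMap_eq fun _ => rfl
    haveI : IsScalarTower R K K' := IsScalarTower.of_algebraMap_eq'
      (IsLocalization.ringHom_ext (Ideal.span {f i}).primeCompl (RingHom.ext fun x => by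
        show algebraMap RP K' (algebraMap R RP (algebraMap A R x)) = algebraMap K K' (algebraMap R K (algebraMap A R x))
        rw [← IsScalarTower.algebraMap_apply A R K, ← IsScalarTower.algebraMap_apply A K K',
          ← IsScalarTower.algebraMap_apply A R RP, ← IsScalarTower.algebraMap_apply A RP K']))
    have hinjR : Function.Injective (algebraMap R RP) := fun x y h => by
      refine IsFractionRing.injective R K ((algebraMap K K').injective ?_)
      rw [← IsScalarTower.algebraMap_apply R K K', ← IsScalarTower.algebraMap_apply R K K',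
        IsScalarTower.algebraMap_apply R RP K', h, ← IsScalarTower.algebraMap_apply R RP K']
    have key := hasModel_square R (AdjoinRoot (X ^ n i - C π : R[X])) R RP hinjA' Function.injective_id hinjR g
      K K K' E (fun K₁ _ _ _ _ _ _ _ => hasModel_kummer E π hmax (n i) he0 hne0 (fun Q => by
        letI : Field (E ⧸ Q.asIdeal) := Ideal.Quotient.field Q.asIdeal
        exact ht Q) K₁)
    exact key.congr (Algebra.TensorProduct.congr (AlgEquiv.refl (R := K') (A₁ := K')) (Algebra.TensorProduct.lid K E))
  · push Not at hi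
    let R := Localization.AtPrime P₀
    letI : Algebra R K := (IsLocalization.lift (M := P₀.primeCompl) (S := R) hu).toAlgebra
    haveI : IsScalarTower A R K := IsScalarTower.of_algebraMap_eq fun x => (IsLocalization.lift_eq hu x).symm
    letI : Algebra R RP := (IsLocalization.lift (M := P₀.primeCompl) (S := R) hu').toAlgebra
    haveI : IsScalarTower A R RP := IsScalarTower.of_algebraMap_eq fun x => (IsLocalization.lift_eq hu' x).symm
    letI : Algebra R K' := ((algebraMap RP K').comp (algebraMap R RP)).toAlgebra
    haveI : IsScalarTower R RP K' := IsScalarTower.of_algebraMap_eq fun _ => rfl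
    haveI : IsScalarTower R K K' := IsScalarTower.of_algebraMap_eq'
      (IsLocalization.ringHom_ext P₀.primeCompl (RingHom.ext fun x => by
        show algebraMap RP K' (algebraMap R RP (algebraMap A R x)) = algebraMap K K' (algebraMap R K (algebraMap A R x))
        rw [← IsScalarTower.algebraMap_apply A R K, ← IsScalarTower.algebraMap_apply A K K',
          ← IsScalarTower.algebraMap_apply A R RP, ← IsScalarTower.algebraMap_apply A RP K']))
    exact (hoff P₀ hP₀ hi R).baseChange RP K'

/-- All exponents at once: the base change has a model over the Kummer extension. -/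
theorem hasModel_kummer_global (A : Type u) [CommRing A] [IsRegularLocalRing A] [IsDomain A] {r : ℕ}
    (f : Fin r → A) (hm : ∀ i, f i ∈ maximalIdeal A)
    (hf : LinearIndependent (ResidueField A) (fun i => (maximalIdeal A).toCotangent ⟨f i, hm i⟩))
    [∀ i, (Ideal.span {f i}).IsPrime] (K : Type u) [Field K] [Algebra A K] [IsFractionRing A K]
    (E : Type u) [CommRing E] [Algebra K E] [Module.Finite K E] [Algebra.Etale K E]
    (hoff : ∀ (P : Ideal A) [P.IsPrime], P.height = 1 → (∀ i, f i ∉ P) → ∀ (R : Type u) [CommRing R] [Algebra A R]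
      [IsLocalization.AtPrime R P] [Algebra R K] [IsScalarTower A R K], HasModel R K E)
    (n : Fin r → ℕ) (hn : ∀ i, 1 ≤ n i)
    (htame : ∀ i, (n i : ResidueField (Localization.AtPrime (Ideal.span {f i}))) ≠ 0 ∧
      ∀ [IsDiscreteValuationRing (Localization.AtPrime (Ideal.span {f i}))]
        [Algebra (Localization.AtPrime (Ideal.span {f i})) K] [IsScalarTower A (Localization.AtPrime (Ideal.span {f i})) K]
        (Q : MaximalSpectrum E), letI : Field (E ⧸ Q.asIdeal) := Ideal.Quotient.field Q.asIdeal
        TameBy (Localization.AtPrime (Ideal.span {f i}))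
          ((algebraMap K (E ⧸ Q.asIdeal)).comp (algebraMap (Localization.AtPrime (Ideal.span {f i})) K)) (n i))
    (K' : Type u) [Field K'] [Algebra (SGA1.kummerAlg A f n) K'] [IsFractionRing (SGA1.kummerAlg A f n) K']
    [Algebra K K'] [Algebra A K'] [IsScalarTower A (SGA1.kummerAlg A f n) K'] [IsScalarTower A K K'] :
    HasModel (SGA1.kummerAlg A f n) K' (K' ⊗[K] E) := by
  haveI := KummerReg24.isRegularLocalRing A f hn hm hf
  haveI := RegLoc6.isDomain_of_isRegularLocalRing (SGA1.kummerAlg A f n)
  haveI := RegLoc6.isIntegrallyClosed_of_isRegularLocalRing (SGA1.kummerAlg A f n)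
  haveI := KummerReg24.isIntegral A f hn
  exact hasModel_of_height_one _ K' (K' ⊗[K] E) fun P _ hP RP _ _ _ _ _ =>
    hasModel_kummer_prime A f hm hf K E hoff n hn P hP (fun i _ => htame i) K' RP

/-- The algebraic absolute Abhyankar lemma. -/
theorem exists_hasModel (A : Type u) [CommRing A] [IsRegularLocalRing A] [IsDomain A] {r : ℕ}
    (f : Fin r → A) (hm : ∀ i, f i ∈ maximalIdeal A)
    (hf : LinearIndependent (ResidueField A) (fun i => (maximalIdeal A).toCotangent ⟨f i, hm i⟩))
    [∀ i, (Ideal.span {f i}).IsPrime] (K : Type u) [Field K] [Algebra A K] [IsFractionRing A K]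
    (E : Type u) [CommRing E] [Algebra K E] [Module.Finite K E] [Algebra.Etale K E]
    (hoff : ∀ (P : Ideal A) [P.IsPrime], P.height = 1 → (∀ i, f i ∉ P) → ∀ (R : Type u) [CommRing R] [Algebra A R]
      [IsLocalization.AtPrime R P] [Algebra R K] [IsScalarTower A R K], HasModel R K E)
    (htame : ∀ i, ∀ [IsDiscreteValuationRing (Localization.AtPrime (Ideal.span {f i}))]
        [Algebra (Localization.AtPrime (Ideal.span {f i})) K] [IsScalarTower A (Localization.AtPrime (Ideal.span {f i})) K]
        (Q : MaximalSpectrum E), letI : Field (E ⧸ Q.asIdeal) := Ideal.Quotient.field Q.asIdeal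
        EtRam.IsTamelyRamified (Localization.AtPrime (Ideal.span {f i}))
          ((algebraMap K (E ⧸ Q.asIdeal)).comp (algebraMap (Localization.AtPrime (Ideal.span {f i})) K))) :
    ∃ n : Fin r → ℕ, (∀ i, 1 ≤ n i) ∧ (∀ i, IsUnit ((n i : ℕ) : ResidueField A)) ∧
      ∀ (K' : Type u) [Field K'] [Algebra (SGA1.kummerAlg A f n) K'] [IsFractionRing (SGA1.kummerAlg A f n) K']
        [Algebra K K'] [Algebra A K'] [IsScalarTower A (SGA1.kummerAlg A f n) K'] [IsScalarTower A K K'],
        HasModel (SGA1.kummerAlg A f n) K' (K' ⊗[K] E) := by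
  classical
  obtain ⟨hfinQ, -⟩ := exists_piEquiv K E
  haveI := hfinQ
  haveI := RegLoc6.isIntegrallyClosed_of_isRegularLocalRing A
  -- the ramification bounds
  have hbound : ∀ i, ∃ e : ℕ, 0 < e ∧ (e : ResidueField (Localization.AtPrime (Ideal.span {f i}))) ≠ 0 ∧
      ∀ [IsDiscreteValuationRing (Localization.AtPrime (Ideal.span {f i}))]
        [Algebra (Localization.AtPrime (Ideal.span {f i})) K] [IsScalarTower A (Localization.AtPrime (Ideal.span {f i})) K]
        (Q : MaximalSpectrum E), letI : Field (E ⧸ Q.asIdeal) := Ideal.Quotient.field Q.asIdeal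
        TameBy (Localization.AtPrime (Ideal.span {f i}))
          ((algebraMap K (E ⧸ Q.asIdeal)).comp (algebraMap (Localization.AtPrime (Ideal.span {f i})) K)) e := by
    intro i
    let R := Localization.AtPrime (Ideal.span {f i})
    have hf0 : f i ≠ 0 := fun h0 => hf.ne_zero i (by
      have : (⟨f i, hm i⟩ : maximalIdeal A) = 0 := Subtype.ext h0
      show (maximalIdeal A).toCotangent ⟨f i, hm i⟩ = 0
      rw [this, map_zero])
    haveI := (isDVR_localization_span A (f i) hf0).1
    have hu : ∀ y : (Ideal.span {f i}).primeCompl, IsUnit (algebraMap A K y) := fun y =>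
      isUnit_iff_ne_zero.2 (IsFractionRing.to_map_ne_zero_of_mem_nonZeroDivisors
        ((Ideal.span {f i}).primeCompl_le_nonZeroDivisors y.2))
    letI : Algebra R K := (IsLocalization.lift (M := (Ideal.span {f i}).primeCompl) (S := R) hu).toAlgebra
    haveI : IsScalarTower A R K := IsScalarTower.of_algebraMap_eq fun x => (IsLocalization.lift_eq _ x).symm
    haveI : IsFractionRing R K :=
      IsFractionRing.isFractionRing_of_isDomain_of_isLocalization (Ideal.span {f i}).primeCompl R K
    have hQ : ∀ Q : MaximalSpectrum E, ∃ e : ℕ, 0 < e ∧ (e : ResidueField R) ≠ 0 ∧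
        (letI : Field (E ⧸ Q.asIdeal) := Ideal.Quotient.field Q.asIdeal
         TameBy R ((algebraMap K (E ⧸ Q.asIdeal)).comp (algebraMap R K)) e) := by
      intro Q
      let L := E ⧸ Q.asIdeal
      letI : Field L := Ideal.Quotient.field Q.asIdeal
      haveI : Module.Finite K L := Module.Finite.of_surjective (Ideal.Quotient.mkₐ K Q.asIdeal).toLinearMap
        Ideal.Quotient.mk_surjective
      haveI : Algebra.FormallyUnramified K L :=
        Algebra.FormallyUnramified.of_surjective (Ideal.Quotient.mkₐ K Q.asIdeal) Ideal.Quotient.mk_surjective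
      haveI : Algebra.IsSeparable K L := (Algebra.FormallyUnramified.iff_isSeparable K L).1 inferInstance
      letI : Algebra R L := ((algebraMap K L).comp (algebraMap R K)).toAlgebra
      haveI : IsScalarTower R K L := IsScalarTower.of_algebraMap_eq fun _ => rfl
      obtain ⟨e, he0, he, hdiv⟩ := EtRam7.exists_bound_of_tame (A := R) (K := K) (L := L) (htame i Q)
      exact ⟨e, he0, he, htame i Q, hdiv⟩
    choose e he0 he ht using hQ
    haveI : Fintype (MaximalSpectrum E) := Fintype.ofFinite _
    refine ⟨∏ Q, e Q, Finset.prod_pos fun Q _ => he0 Q, ?_, ?_⟩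
    · rw [Nat.cast_prod]
      exact Finset.prod_ne_zero_iff.2 fun Q _ => he Q
    · intro _ alg tow Q
      have halg : alg = (IsLocalization.lift (M := (Ideal.span {f i}).primeCompl) (S := R) hu).toAlgebra :=
        Algebra.algebra_ext _ _ (RingHom.congr_fun (IsLocalization.ringHom_ext (Ideal.span {f i}).primeCompl
          (RingHom.ext fun x => by
            show @algebraMap R K _ _ alg (algebraMap A R x) = IsLocalization.lift hu (algebraMap A R x)
            rw [IsLocalization.lift_eq]
            exact (@IsScalarTower.algebraMap_apply A R K _ _ _ _ alg _ tow x).symm)))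
      subst halg
      letI : Field (E ⧸ Q.asIdeal) := Ideal.Quotient.field Q.asIdeal
      exact (ht Q).mono (Finset.dvd_prod_of_mem e (Finset.mem_univ Q))
  choose e he0 he ht using hbound
  let p := ringChar (ResidueField A)
  by_cases hall : ∀ i, IsUnit ((e i : ℕ) : ResidueField A)
  · exact ⟨e, he0, hall, fun K' _ _ _ _ _ _ _ =>
      hasModel_kummer_global A f hm hf K E hoff e he0 (fun i => ⟨he i, ht i⟩) K'⟩
  push Not at hall
  obtain ⟨i₀, hi₀⟩ := hall
  have hzero : ((e i₀ : ℕ) : ResidueField A) = 0 := by
    by_contra h0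
    exact hi₀ (isUnit_iff_ne_zero.2 h0)
  have hpd : p ∣ e i₀ := (ringChar.spec (ResidueField A) (e i₀)).1 hzero
  have hp0' : p ≠ 0 := fun h => (he0 i₀).ne' (by rw [h] at hpd; exact Nat.eq_zero_of_zero_dvd hpd)
  haveI : CharP (ResidueField A) p := ringChar.charP _
  haveI hpf : Fact p.Prime := ⟨(CharP.char_is_prime_or_zero (ResidueField A) p).resolve_right hp0'⟩
  have hpm : (p : A) ∈ maximalIdeal A := by
    rw [← residue_eq_zero_iff, map_natCast]
    exact CharP.cast_eq_zero _ p
  have hpi : ∀ i, p ∣ e i → (p : A) ∉ Ideal.span {f i} := fun i hd hmem => by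
    refine he i ?_
    obtain ⟨c, hc⟩ := hd
    rw [hc, Nat.cast_mul]
    refine mul_eq_zero_of_left ?_ _
    rw [← map_natCast (residue (Localization.AtPrime (Ideal.span {f i}))), residue_eq_zero_iff,
      ← map_natCast (algebraMap A (Localization.AtPrime (Ideal.span {f i})))]
    exact (IsLocalization.AtPrime.to_map_mem_maximal_iff _ (Ideal.span {f i}) (p : A)).2 hmem
  have hp0 : (p : A) ≠ 0 := fun h => hpi i₀ hpd (by rw [h]; exact zero_mem _)
  let a : Fin r → ℕ := fun i => (e i).factorization p
  let n : Fin r → ℕ := fun i => e i / p ^ a i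
  have hdec : ∀ i, e i = n i * p ^ a i := fun i =>
    (Nat.div_mul_cancel (Nat.ordProj_dvd (e i) p)).symm
  have hn : ∀ i, 1 ≤ n i := fun i => Nat.ordCompl_pos p (he0 i).ne'
  have hnu : ∀ i, IsUnit ((n i : ℕ) : ResidueField A) := fun i => by
    refine isUnit_iff_ne_zero.2 fun h0 => ?_
    exact Nat.not_dvd_ordCompl (Fact.out : p.Prime) (he0 i).ne' ((CharP.cast_eq_zero_iff _ p _).1 h0)
  refine ⟨n, hn, hnu, fun K' _ _ _ _ _ _ _ => ?_⟩
  obtain ⟨hreg, hT, hli⟩ := KummerReg24.isRegularLocalRing_and_li A f hn hm hf
  haveI := hreg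
  haveI := RegLoc6.isDomain_of_isRegularLocalRing (SGA1.kummerAlg A f n)
  haveI := RegLoc6.isIntegrallyClosed_of_isRegularLocalRing (SGA1.kummerAlg A f n)
  haveI := KummerReg24.isIntegral A f hn
  let B := SGA1.kummerAlg A f n
  refine hasModel_descend B K' (K' ⊗[K] E) (KummerReg24.T A f n) hT hli p
    (by rw [← map_natCast (algebraMap A B)]
        haveI : IsLocalHom (algebraMap A B) := ((IsLocalRing.local_hom_TFAE _).out 0 4).2
          (IsLocalRing.eq_maximalIdeal (Ideal.isMaximal_comap_of_isIntegral_of_isMaximal (maximalIdeal B)))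
        exact map_nonunit _ _ hpm)
    (fun h => hp0 (KummerReg24.injective_algebraMap A f hn (by rw [map_natCast, h, map_zero]))) a ?_ ?_
  · intro P _ hP hpP RP _ _ _ _ _
    refine hasModel_kummer_prime A f hm hf K E hoff n hn P hP (fun i hi => ?_) K' RP
    have hai : a i = 0 := by
      refine Nat.factorization_eq_zero_of_not_dvd fun hd => hpi i hd ?_
      -- both lie in the same height one prime
      have hf0 : f i ≠ 0 := fun h0 => hf.ne_zero i (by
        have : (⟨f i, hm i⟩ : maximalIdeal A) = 0 := Subtype.ext h0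
        show (maximalIdeal A).toCotangent ⟨f i, hm i⟩ = 0
        rw [this, map_zero])
      haveI : FaithfulSMul A B := (faithfulSMul_iff_algebraMap_injective _ _).2 (KummerReg24.injective_algebraMap A f hn)
      haveI : (P.comap (algebraMap A B)).IsPrime := Ideal.comap_isPrime _ _
      haveI : P.LiesOver (P.comap (algebraMap A B)) := ⟨rfl⟩
      have hle : (P.comap (algebraMap A B)).height ≤ 1 := by
        rw [← hP, Ideal.height_eq_height_add_of_liesOver_of_hasGoingDown (P.comap (algebraMap A B)) P]
        exact le_self_add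
      have hsub : Ideal.span {f i} ≤ P.comap (algebraMap A B) := (Ideal.span_singleton_le_iff_mem _).2 hi
      have heq : Ideal.span {f i} = P.comap (algebraMap A B) := by
        by_contra hne
        have h := Ideal.height_strict_mono_of_isPrime_of_isPrime (lt_of_le_of_ne hsub hne)
        rw [height_eq_one_of_span hf0] at h
        exact lt_irrefl _ (h.trans_le hle)
      rw [heq, Ideal.mem_comap, map_natCast]
      exact hpP
    have hne : n i = e i := by rw [hdec i, hai, pow_zero, mul_one]
    rw [hne]
    exact ⟨he i, ht i⟩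
  · intro K₂ _ _ _ _ _ _ _
    let C := SGA1.kummerAlg B (KummerReg24.T A f n) (fun i => p ^ a i)
    have hn2 : ∀ i, 1 ≤ p ^ a i := fun i => Nat.one_le_pow _ _ (Fact.out : p.Prime).pos
    haveI := KummerReg24.isRegularLocalRing B (KummerReg24.T A f n) hn2 hT hli
    haveI := RegLoc6.isDomain_of_isRegularLocalRing C
    haveI := KummerReg24.isRegularLocalRing A f he0 hm hf
    haveI := RegLoc6.isDomain_of_isRegularLocalRing (SGA1.kummerAlg A f e)
    haveI := KummerReg24.isIntegral A f (n := e) he0
    obtain ⟨g, -⟩ := KummerReg24.exists_algHom A f e (S := C)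
      (fun i => KummerReg24.T B (KummerReg24.T A f n) (fun i => p ^ a i) i) fun i => by
        rw [hdec i, mul_comm, pow_mul, KummerReg24.T_pow, ← map_pow, KummerReg24.T_pow,
          ← IsScalarTower.algebraMap_apply]
    exact hasModel_square A (SGA1.kummerAlg A f e) B C (KummerReg24.injective_algebraMap A f he0)
      (KummerReg24.injective_algebraMap A f hn) (KummerReg24.injective_algebraMap B _ hn2) g K K' K₂ E
      (fun K₁ _ _ _ _ _ _ _ => hasModel_kummer_global A f hm hf K E hoff e he0 (fun i => ⟨he i, ht i⟩) K₁)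

end Groth.Agent.Abh24
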