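import Groth.Agent.Abh24.Model
import Groth.Agent.Pi1Ext.BranchAlg

/-!
# Models over regular local rings from models in codimension one
-/

set_option autoImplicit false
set_option backward.isDefEq.respectTransparency false
set_option backward.isDefEq.respectTransparency.types false
set_option linter.style.haveILetI false
set_option maxHeartbeats 1000000

universe u

open TensorProduct Polynomial

namespace Groth.Agent.Abh24

/-- A finite étale algebra over a field is the product of its residue fields. -/
theorem exists_piEquiv (K E : Type u) [Field K] [CommRing E] [Algebra K E] [Module.Finite K E] [Algebra.Etale K E] :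
    Finite (MaximalSpectrum E) ∧
    ∃ Φ : E ≃ₐ[K] (∀ Q : MaximalSpectrum E, E ⧸ Q.asIdeal), ∀ x Q, Φ x Q = Ideal.Quotient.mk Q.asIdeal x := by
  haveI := IsArtinianRing.of_finite K E
  haveI := Algebra.FormallyUnramified.isReduced_of_field K E
  exact ⟨inferInstance, (IsArtinianRing.equivPi E).restrictScalars K, fun x Q => IsArtinianRing.equivPi_apply E x Q⟩

/-- The integral closure surjects onto the integral closure in a residue field. -/
theorem integralClosure_quot_surjective (R K E : Type u) [CommRing R] [Field K] [CommRing E] [Algebra K E]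
    [Algebra R E] [Module.Finite K E] [Algebra.Etale K E] (Q : MaximalSpectrum E)
    (x : E ⧸ Q.asIdeal) (hx : IsIntegral R x) :
    ∃ y : E, IsIntegral R y ∧ Ideal.Quotient.mk Q.asIdeal y = x := by
  classical
  obtain ⟨-, Φ, hΦ⟩ := exists_piEquiv K E
  obtain ⟨p, hp, hpx⟩ := hx
  refine ⟨Φ.symm (Pi.single Q x), ⟨X * p, monic_X.mul hp, ?_⟩, ?_⟩
  · refine Φ.injective (funext fun I => ?_)
    rw [hΦ, map_zero, Pi.zero_apply]
    rw [eval₂_mul, eval₂_X, map_mul, hom_eval₂, ← hΦ, Φ.apply_symm_apply]
    by_cases h : I = Q
    · subst h
      rw [Pi.single_eq_same]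
      exact mul_eq_zero_of_right _ hpx
    · rw [Pi.single_eq_of_ne h, zero_mul]
  · rw [← hΦ, Φ.apply_symm_apply, Pi.single_eq_same]

/-- Purity: over a regular local ring, models in codimension one glue to a model. -/
theorem hasModel_of_height_one (A : Type u) [CommRing A] [IsRegularLocalRing A] [IsDomain A]
    (K : Type u) [Field K] [Algebra A K] [IsFractionRing A K] (E : Type u) [CommRing E] [Algebra K E]
    [Module.Finite K E] [Algebra.Etale K E]
    (h : ∀ (P : Ideal A) [P.IsPrime], P.height = 1 → ∀ (R : Type u) [CommRing R] [Algebra A R]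
      [IsLocalization.AtPrime R P] [Algebra R K] [IsScalarTower A R K], HasModel R K E) :
    HasModel A K E := by
  haveI := Groth.Agent.RegLoc6.isIntegrallyClosed_of_isRegularLocalRing A
  obtain ⟨hfinQ, Φ, hΦ⟩ := exists_piEquiv K E
  haveI := hfinQ
  suffices H : ∀ Q : MaximalSpectrum E, HasModel A K (E ⧸ Q.asIdeal) from (HasModel.pi H).congr Φ.symm
  intro Q
  let M := E ⧸ Q.asIdeal
  letI : Field M := Ideal.Quotient.field Q.asIdeal
  letI : Algebra A M := Algebra.compHom M (algebraMap A K)
  haveI : IsScalarTower A K M := IsScalarTower.of_algebraMap_eq fun _ => rfl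
  haveI : Module.Finite K M := Module.Finite.of_surjective (Ideal.Quotient.mkₐ K Q.asIdeal).toLinearMap
    Ideal.Quotient.mk_surjective
  haveI : Algebra.FormallyUnramified K M :=
    Algebra.FormallyUnramified.of_surjective (Ideal.Quotient.mkₐ K Q.asIdeal) Ideal.Quotient.mk_surjective
  haveI : Algebra.IsSeparable K M := (Algebra.FormallyUnramified.iff_isSeparable K M).1 inferInstance
  let C := integralClosure A M
  haveI : Module.Finite A C := IsIntegralClosure.finite A K M C
  haveI : Algebra.FinitePresentation A C := Algebra.FinitePresentation.of_finiteType.mp inferInstance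
  have hinjM : Function.Injective (algebraMap A M) := by
    rw [IsScalarTower.algebraMap_eq A K M]
    exact (algebraMap K M).injective.comp (IsFractionRing.injective A K)
  have hinj : Function.Injective (algebraMap A C) := fun a b hab => hinjM (congrArg Subtype.val hab)
  haveI : FaithfulSMul A C := (faithfulSMul_iff_algebraMap_injective A C).2 hinj
  haveI : Algebra.IsIntegral A C := Algebra.IsIntegral.of_finite A C
  haveI : IsNoetherianRing C := IsNoetherianRing.of_finite A C
  haveI : IsIntegrallyClosed C := integralClosure.isIntegrallyClosedOfFiniteExtension K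
  have hht : ∀ (t : Ideal C) [t.IsPrime], (t.comap (algebraMap A C)).height = t.height := by
    intro t _
    haveI : (t.comap (algebraMap A C)).IsPrime := Ideal.comap_isPrime _ _
    haveI : t.LiesOver (t.comap (algebraMap A C)) := ⟨rfl⟩
    refine le_antisymm ?_ ?_
    · rw [Ideal.height_eq_height_add_of_liesOver_of_hasGoingDown (t.comap (algebraMap A C)) t]
      exact le_self_add
    · rw [PrimeSpectrum.height_eq_orderHeight ⟨t, inferInstance⟩,
        PrimeSpectrum.height_eq_orderHeight ⟨t.comap (algebraMap A C), inferInstance⟩]
      exact Order.height_le_height_apply_of_strictMono (PrimeSpectrum.comap (algebraMap A C))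
        (fun P P' h => Ideal.IsIntegral.comap_lt_comap h) _
  have key : ∀ (t : Ideal C) [t.IsPrime], t.height = 1 → Algebra.IsUnramifiedAt A t := by
    intro t _ ht
    let P := t.comap (algebraMap A C)
    haveI : P.IsPrime := Ideal.comap_isPrime _ _
    have hP : P.height = 1 := (hht t).trans ht
    let R := Localization.AtPrime P
    have hu : ∀ y : P.primeCompl, IsUnit (algebraMap A K y) := fun y =>
      isUnit_iff_ne_zero.2 (IsFractionRing.to_map_ne_zero_of_mem_nonZeroDivisors
        (P.primeCompl_le_nonZeroDivisors y.2))
    letI : Algebra R K := (IsLocalization.lift (M := P.primeCompl) (S := R) hu).toAlgebra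
    haveI : IsScalarTower A R K := IsScalarTower.of_algebraMap_eq fun a => (IsLocalization.lift_eq hu a).symm
    haveI : IsFractionRing R K := IsFractionRing.isFractionRing_of_isDomain_of_isLocalization P.primeCompl R K
    haveI : IsDomain R := inferInstance
    haveI : IsIntegrallyClosed R :=
      isIntegrallyClosed_of_isLocalization R P.primeCompl P.primeCompl_le_nonZeroDivisors
    letI : Algebra R E := Algebra.compHom E (algebraMap R K)
    haveI : IsScalarTower R K E := IsScalarTower.of_algebraMap_eq fun _ => rfl
    letI : Algebra R M := Algebra.compHom M (algebraMap R K)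
    haveI : IsScalarTower R K M := IsScalarTower.of_algebraMap_eq fun _ => rfl
    haveI : IsScalarTower A R M := IsScalarTower.of_algebraMap_eq fun a => by
      show algebraMap K M (algebraMap A K a) = algebraMap K M (algebraMap R K (algebraMap A R a))
      rw [← IsScalarTower.algebraMap_apply A R K]
    obtain ⟨-, het⟩ := (h P hP R).integralClosure_etale
    haveI := het
    let D := integralClosure R M
    let q : integralClosure R E →ₐ[R] D := (((Ideal.Quotient.mkₐ K Q.asIdeal).restrictScalars R).comp
      (integralClosure R E).val).codRestrict D fun y => y.2.map ((Ideal.Quotient.mkₐ K Q.asIdeal).restrictScalars R)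
    have hq : Function.Surjective q := by
      rintro ⟨x, hx⟩
      obtain ⟨y, hy, hyx⟩ := integralClosure_quot_surjective R K E Q x hx
      exact ⟨⟨y, hy⟩, Subtype.ext hyx⟩
    haveI : Algebra.FormallyUnramified R D := Algebra.FormallyUnramified.of_surjective q hq
    haveI : Algebra.FormallyEtale A R := Algebra.FormallyEtale.of_isLocalization P.primeCompl
    haveI : Algebra.FormallyUnramified A D := Algebra.FormallyUnramified.comp A R D
    letI : Algebra C D := (RingHom.codRestrict C.val.toRingHom D fun c => c.2.tower_top).toAlgebra
    haveI : IsScalarTower A C D := IsScalarTower.of_algebraMap_eq fun a => Subtype.ext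
      (by first | rfl | exact IsScalarTower.algebraMap_apply A R M a | exact (IsScalarTower.algebraMap_apply A R M a).symm)
    haveI : IsLocalization (Algebra.algebraMapSubmonoid C P.primeCompl) D := by
      constructor
      constructor
      · rintro ⟨_, a, ha, rfl⟩
        rw [← IsScalarTower.algebraMap_apply A C D, IsScalarTower.algebraMap_apply A R D]
        exact (IsLocalization.map_units R (⟨a, ha⟩ : P.primeCompl)).map _
      · rintro ⟨z, hz⟩
        obtain ⟨⟨a, ha⟩, hint⟩ := IsIntegral.exists_multiple_integral_of_isLocalization P.primeCompl z hz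
        refine ⟨⟨⟨_, hint⟩, ⟨_, a, ha, rfl⟩⟩, Subtype.ext ?_⟩
        show z * algebraMap A M a = a • z
        rw [Algebra.smul_def, mul_comm]
      · intro x y hxy
        exact ⟨1, by rw [show x = y from Subtype.ext (congrArg Subtype.val hxy :)]⟩
    have hd : Disjoint (Algebra.algebraMapSubmonoid C P.primeCompl : Set C) (t : Set C) := by
      rw [Set.disjoint_left]
      rintro _ ⟨a, ha, rfl⟩ hs
      exact ha hs
    let t' := t.map (algebraMap C D)
    haveI : t'.IsPrime := IsLocalization.isPrime_of_isPrime_disjoint _ D t inferInstance hd
    have hc : t'.comap (algebraMap C D) = t := IsLocalization.comap_map_of_isPrime_disjoint _ D inferInstance hd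
    haveI : IsLocalization.AtPrime (Localization.AtPrime t') t := by
      have := IsLocalization.isLocalization_isLocalization_atPrime_isLocalization
        (Algebra.algebraMapSubmonoid C P.primeCompl) (Localization.AtPrime t') t'
      simp only [hc] at this
      exact this
    haveI : Algebra.FormallyUnramified D (Localization.AtPrime t') :=
      Algebra.FormallyUnramified.of_isLocalization t'.primeCompl
    haveI : Algebra.FormallyUnramified A (Localization.AtPrime t') := Algebra.FormallyUnramified.comp A D _
    let ε := IsLocalization.algEquiv t.primeCompl (Localization.AtPrime t') (Localization.AtPrime t)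
    exact @Algebra.FormallyUnramified.of_surjective A _ (Localization.AtPrime t') (Localization.AtPrime t) _ _ _ _ _ (ε.toAlgHom.restrictScalars A) ε.surjective
  haveI : Algebra.Etale A C := by
    by_cases h0 : IsField A
    · -- `A` is a field
      have hK : Function.Bijective (algebraMap A K) := by
        refine ⟨IsFractionRing.injective A K, fun z => ?_⟩
        obtain ⟨a, b, hb, rfl⟩ := IsFractionRing.div_surjective (A := A) z
        obtain ⟨c, hc⟩ := h0.mul_inv_cancel (nonZeroDivisors.ne_zero hb)
        refine ⟨a * c, (div_eq_of_eq_mul (IsFractionRing.to_map_ne_zero_of_mem_nonZeroDivisors hb) ?_).symm⟩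
        rw [← map_mul, mul_assoc, mul_comm c b, hc, mul_one]
      let eK : A ≃ₐ[A] K := AlgEquiv.ofBijective (Algebra.ofId A K) hK
      haveI : Algebra.Etale A K := Algebra.Etale.of_equiv eK
      haveI : Module.Finite A K := Module.Finite.equiv eK.toLinearEquiv
      haveI : Algebra.Etale K M :=
        { formallyEtale := Algebra.FormallyEtale.of_isSeparable K M
          finitePresentation := Algebra.FinitePresentation.of_finiteType.mp inferInstance }
      haveI : Algebra.Etale A M := Algebra.Etale.comp A K M
      haveI : Module.Finite A M := Module.Finite.trans K M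
      exact Algebra.Etale.of_equiv (AlgEquiv.ofBijective C.val
        ⟨Subtype.val_injective, fun z => ⟨⟨z, Algebra.IsIntegral.isIntegral (R := A) z⟩, rfl⟩⟩ : C ≃ₐ[A] M).symm
    have h1 : (1 : WithBot ℕ∞) ≤ ringKrullDim A := by
      rw [← IsLocalRing.maximalIdeal_height_eq_ringKrullDim, ← WithBot.coe_one, WithBot.coe_le_coe,
        Order.one_le_iff_pos, pos_iff_ne_zero]
      intro hz
      refine h0 (IsLocalRing.isField_iff_maximalIdeal_eq.2 ?_)
      by_contra hne
      have := Ideal.height_strict_mono_of_isPrime_of_isPrime (bot_lt_iff_ne_bot.2 hne)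
      rw [hz] at this
      exact not_lt_zero this
    refine { formallyEtale := ?_, finitePresentation := inferInstance }
    refine Algebra.etaleLocus_eq_univ_iff.1 (Set.eq_univ_of_forall fun q => ?_)
    obtain ⟨m, hm, hle⟩ := Ideal.exists_le_maximal q.asIdeal q.2.ne_top
    haveI := hm
    haveI : (m.comap (algebraMap A C)).IsMaximal := Ideal.isMaximal_comap_of_isIntegral_of_isMaximal m
    have hdim : ringKrullDim (Localization.AtPrime m) = ringKrullDim A := by
      rw [IsLocalization.AtPrime.ringKrullDim_eq_height m, ← hht m,
        IsLocalRing.eq_maximalIdeal (inferInstance : (m.comap (algebraMap A C)).IsMaximal),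
        IsLocalRing.maximalIdeal_height_eq_ringKrullDim]
    haveI : IsIntegrallyClosed (Localization.AtPrime m) :=
      isIntegrallyClosed_of_isLocalization _ m.primeCompl m.primeCompl_le_nonZeroDivisors
    exact Pi1Ext.BranchAlg.isEtaleAt_of_le hle
      (Pi1Ext.BranchAlg.isEtaleAt_local m hdim (hdim ▸ h1) fun t _ _ ht => key t ht)
  haveI : IsFractionRing C M := IsIntegralClosure.isFractionRing_of_finite_extension A K M C
  haveI : Algebra.IsIntegral K M := Algebra.IsIntegral.of_finite K M
  haveI : IsLocalization (Algebra.algebraMapSubmonoid C (nonZeroDivisors A)) M := by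
    constructor
    constructor
    · rintro ⟨_, a, ha, rfl⟩
      show IsUnit (algebraMap A M a)
      rw [IsScalarTower.algebraMap_apply A K M]
      exact (IsUnit.mk0 _ (IsFractionRing.to_map_ne_zero_of_mem_nonZeroDivisors ha)).map _
    · intro z
      obtain ⟨⟨a, ha⟩, hint⟩ := IsIntegral.exists_multiple_integral_of_isLocalization (nonZeroDivisors A) z
        (Algebra.IsIntegral.isIntegral (R := K) z)
      refine ⟨⟨⟨_, hint⟩, ⟨_, a, ha, rfl⟩⟩, ?_⟩
      show z * algebraMap A M a = a • z
      rw [Algebra.smul_def, mul_comm]
    · intro x y hxy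
      exact ⟨1, by rw [Subtype.ext hxy]⟩
  haveI : Algebra.IsPushout A K C M := (Algebra.isPushout_of_isLocalization (nonZeroDivisors A) K C M).symm
  exact ⟨C, inferInstance, inferInstance, inferInstance, inferInstance, ⟨Algebra.IsPushout.equiv A K C M⟩⟩

end Groth.Agent.Abh24
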