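import Groth.Agent.Abh24.Strict
import Groth.Agent.S2821
import Groth.Agent.Pi1Ext.PuritySch

/-!
# Regular tame covers of strictly henselian regular rings are Kummer covers
-/

set_option autoImplicit false
set_option backward.isDefEq.respectTransparency false
set_option backward.isDefEq.respectTransparency.types false
set_option linter.style.haveILetI false
set_option maxHeartbeats 1000000

universe u

open TensorProduct IsLocalRing Polynomial

namespace Groth.Agent.Abh24

/-- Residue fields of algebras generated by roots of invertible order of units are separable. -/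
theorem isSeparable_residueField_of_roots {A A' : Type u} [CommRing A] [CommRing A'] [Algebra A A']
    (p : Ideal A) [p.IsPrime] (P : Ideal A') [P.IsPrime] [P.LiesOver p]
    [Algebra (Localization.AtPrime p) (Localization.AtPrime P)] [Localization.AtPrime.IsLiesOverAlgebra p P]
    {r : ℕ} (T : Fin r → A') (hgen : Algebra.adjoin A (Set.range T) = ⊤)
    (h : ∀ j, T j ∈ P ∨ ∃ (m : ℕ) (c : A), (m : p.ResidueField) ≠ 0 ∧ c ∉ p ∧ T j ^ m = algebraMap A A' c) :
    Algebra.IsSeparable p.ResidueField P.ResidueField := by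
  haveI : IsScalarTower A p.ResidueField P.ResidueField := inferInstance
  let S : IntermediateField p.ResidueField P.ResidueField := separableClosure p.ResidueField P.ResidueField
  have hT : ∀ j, algebraMap A' P.ResidueField (T j) ∈ S := by
    intro j
    rcases h j with hj | ⟨m, c, hm, hc, hj⟩
    · rw [Ideal.algebraMap_residueField_eq_zero.2 hj]
      exact zero_mem _
    · refine mem_separableClosure_iff.2 ?_
      have hc0 : algebraMap A p.ResidueField c ≠ 0 := fun h0 => hc (Ideal.algebraMap_residueField_eq_zero.1 h0)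
      refine (Polynomial.separable_X_pow_sub_C (algebraMap A p.ResidueField c) hm hc0).of_dvd (minpoly.dvd _ _ ?_)
      rw [map_sub, map_pow, aeval_X, aeval_C, ← map_pow, hj, ← IsScalarTower.algebraMap_apply,
        ← IsScalarTower.algebraMap_apply, sub_self]
  have hall : ∀ x : A', algebraMap A' P.ResidueField x ∈ S := by
    intro x
    have hx : x ∈ Algebra.adjoin A (Set.range T) := hgen ▸ trivial
    induction hx using Algebra.adjoin_induction with
    | mem y hy => obtain ⟨j, rfl⟩ := hy; exact hT j
    | algebraMap a =>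
      rw [← IsScalarTower.algebraMap_apply, IsScalarTower.algebraMap_apply A p.ResidueField P.ResidueField]
      exact IntermediateField.algebraMap_mem _ _
    | add y z _ _ hy hz => rw [map_add]; exact add_mem hy hz
    | mul y z _ _ hy hz => rw [map_mul]; exact mul_mem hy hz
  refine ⟨fun z => mem_separableClosure_iff.1 ?_⟩
  obtain ⟨x, y, -, rfl⟩ := IsFractionRing.div_surjective (A := A' ⧸ P) z
  obtain ⟨x, rfl⟩ := Ideal.Quotient.mk_surjective x
  obtain ⟨y, rfl⟩ := Ideal.Quotient.mk_surjective y
  rw [Ideal.algebraMap_quotient_residueField_mk, Ideal.algebraMap_quotient_residueField_mk]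
  exact div_mem (hall x) (hall y)

theorem adjoin_T (A : Type u) [CommRing A] {r : ℕ} (f : Fin r → A) (n : Fin r → ℕ) :
    Algebra.adjoin A (Set.range (KummerReg24.T A f n)) = ⊤ := by
  have h : Function.Surjective (Ideal.Quotient.mkₐ A (Ideal.span (Set.range fun i =>
    (MvPolynomial.X i : MvPolynomial (Fin r) A) ^ n i - MvPolynomial.C (f i)))) := Ideal.Quotient.mkₐ_surjective _ _
  rw [← (AlgHom.range_eq_top _).2 h, ← Algebra.map_top, ← MvPolynomial.adjoin_range_X, AlgHom.map_adjoin,
    ← Set.range_comp]
  rfl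

/-- A member of a regular system of parameters generates a prime, and the others avoid it. -/
theorem prime_of_li {R : Type u} [CommRing R] [IsRegularLocalRing R] {r : ℕ} (T : Fin r → R)
    (hT : ∀ i, T i ∈ maximalIdeal R)
    (hli : LinearIndependent (ResidueField R) (fun i => (maximalIdeal R).toCotangent ⟨T i, hT i⟩)) (i : Fin r) :
    Prime (T i) ∧ ∀ j, j ≠ i → ¬ T i ∣ T j := by
  haveI := RegLoc6.isDomain_of_isRegularLocalRing R
  have h2 : T i ∉ maximalIdeal R ^ 2 := fun h => hli.ne_zero i (((maximalIdeal R).toCotangent_eq_zero _).2 h)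
  haveI := (RegLoc6.isRegularLocalRing_quot_and (hT i) h2).1
  haveI := RegLoc6.isDomain_of_isRegularLocalRing (R ⧸ Ideal.span {T i})
  have h0 : T i ≠ 0 := fun h => h2 (h ▸ zero_mem _)
  refine ⟨(Ideal.span_singleton_prime h0).1 ((Ideal.Quotient.isDomain_iff_prime _).1 inferInstance), ?_⟩
  rintro j hj ⟨c, hc⟩
  refine hli.notMem_span_image (s := {i}) (x := j) (by simpa using hj) ?_
  rw [Set.image_singleton, Submodule.mem_span_singleton]
  refine ⟨residue R c, ?_⟩
  rw [← ResidueField.algebraMap_eq, IsScalarTower.algebraMap_smul, ← map_smul]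
  exact congrArg (maximalIdeal R).toCotangent (Subtype.ext (by simp [hc, mul_comm]))

/-- The multiplicity of a member of the system of parameters in a regular finite subalgebra of a Kummer algebra. -/
theorem exists_uniformizer {A B A' : Type u} [CommRing A] [CommRing B] [CommRing A'] [IsDomain B] [IsDomain A'] [IsNoetherianRing A']
    [UniqueFactorizationMonoid B] [Algebra B A'] [Algebra.IsIntegral B A'] [Algebra A B] [Algebra A A']
    [IsScalarTower A B A'] (hinj : Function.Injective (algebraMap B A'))
    (x : A) (T : A') (hT : Prime T) (N : ℕ) (hN : 1 ≤ N) (hpow : T ^ N = algebraMap A A' x) :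
    ∃ (π u : B) (e : ℕ), IsUnit u ∧ 1 ≤ e ∧ e ∣ N ∧ algebraMap A B x = u * π ^ e ∧
      Ideal.span {π} = (Ideal.span {T}).comap (algebraMap B A') ∧ Prime π := by
  classical
  have hx : algebraMap B A' (algebraMap A B x) = T ^ N := by rw [← IsScalarTower.algebraMap_apply, hpow]
  have hb0 : algebraMap A B x ≠ 0 := fun h => pow_ne_zero N hT.ne_zero (by rw [← hx, h, map_zero])
  have hbu : ¬ IsUnit (algebraMap A B x) := fun h => hT.not_unit ((isUnit_pow_iff (by omega)).1 (hx ▸ h.map (algebraMap B A')))
  -- every prime factor lies under `T`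
  have huniq : ∀ q : B, Prime q → q ∣ algebraMap A B x → Ideal.span {q} = (Ideal.span {T}).comap (algebraMap B A') := by
    intro q hq hqx
    haveI : (Ideal.span {q}).IsPrime := (Ideal.span_singleton_prime hq.ne_zero).2 hq
    haveI : (Ideal.span {T}).IsPrime := (Ideal.span_singleton_prime hT.ne_zero).2 hT
    obtain ⟨P, -, hP, hPq⟩ := Ideal.exists_ideal_over_prime_of_isIntegral (S := A') (Ideal.span {q}) ⊥ (by
      rw [show Ideal.comap (algebraMap B A') ⊥ = ⊥ from (RingHom.injective_iff_ker_eq_bot _).1 hinj]
      exact bot_le)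
    haveI := hP
    have hTP : T ∈ P := hP.mem_of_pow_mem N (hx ▸ Ideal.mem_comap.1 (hPq.symm ▸ Ideal.mem_span_singleton.2 hqx))
    have hle : (Ideal.span {T}).comap (algebraMap B A') ≤ Ideal.span {q} :=
      hPq ▸ Ideal.comap_mono ((Ideal.span_singleton_le_iff_mem _).2 hTP)
    have hmem : algebraMap A B x ∈ (Ideal.span {T}).comap (algebraMap B A') := by
      rw [Ideal.mem_comap, hx]
      exact Ideal.mem_span_singleton.2 (dvd_pow_self _ (by omega))
    refine le_antisymm ?_ hle
    haveI hp' : ((Ideal.span {T}).comap (algebraMap B A')).IsPrime := Ideal.comap_isPrime _ _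
    obtain ⟨q', hq'P, hq'⟩ := (Ideal.IsPrime.exists_mem_prime_of_ne_bot hp' fun hb => hb0 (Ideal.mem_bot.1 (hb ▸ hmem)))
    obtain ⟨c, rfl⟩ := Ideal.mem_span_singleton.1 (hle hq'P)
    have hc : IsUnit c := (hq'.irreducible.isUnit_or_isUnit rfl).resolve_left hq.not_unit
    rw [Ideal.span_singleton_le_iff_mem]
    exact (Ideal.mul_unit_mem_iff_mem _ hc).1 hq'P
  obtain ⟨π, hπi, hπd⟩ := WfDvdMonoid.exists_irreducible_factor hbu hb0
  have hπ : Prime π := UniqueFactorizationMonoid.irreducible_iff_prime.1 hπi
  obtain ⟨e, u, hu, he⟩ := WfDvdMonoid.max_power_factor hb0 hπi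
  have hue : IsUnit u := by
    by_contra hnu
    obtain ⟨q, hqi, hqd⟩ := WfDvdMonoid.exists_irreducible_factor hnu (fun h0 => hb0 (by rw [he, h0, mul_zero]))
    have hq := UniqueFactorizationMonoid.irreducible_iff_prime.1 hqi
    have hass : Ideal.span {q} = Ideal.span {π} :=
      (huniq q hq (he ▸ hqd.mul_left _)).trans (huniq π hπ hπd).symm
    exact hu ((Ideal.span_singleton_eq_span_singleton.1 hass).symm.dvd.trans hqd)
  have hspan := huniq π hπ hπd
  have he0 : 1 ≤ e := by
    by_contra h
    exact hbu (by rw [he, show e = 0 by omega, pow_zero, one_mul]; exact hue)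
  refine ⟨π, u, e, hue, he0, ?_, by rw [he, mul_comm], hspan, hπ⟩
  have hπT : T ∣ algebraMap B A' π := Ideal.mem_span_singleton.1 (Ideal.mem_comap.1 (hspan ▸ Ideal.mem_span_singleton_self π))
  obtain ⟨a, w, hw, hπw⟩ := WfDvdMonoid.max_power_factor' (a₀ := algebraMap B A' π) (x := T)
    (by exact (map_ne_zero_iff _ hinj).2 hπ.ne_zero) hT.not_unit
  refine ⟨a, ?_⟩
  have h : T ^ N = T ^ (a * e) * (w ^ e * algebraMap B A' u) := by
    rw [← hx, he, map_mul, map_pow, hπw, mul_pow, ← pow_mul, mul_assoc]
  have hndvd : ¬ T ∣ w ^ e * algebraMap B A' u := fun hd => by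
    rcases hT.dvd_or_dvd hd with h1 | h1
    · exact hw (hT.dvd_of_dvd_pow h1)
    · exact hT.not_unit (isUnit_of_dvd_unit h1 (hue.map _))
  rcases lt_trichotomy (a * e) N with hlt | heq | hgt
  · refine absurd ?_ hndvd
    have h' : T ^ (N - a * e) = w ^ e * algebraMap B A' u := mul_left_cancel₀ (pow_ne_zero (a * e) hT.ne_zero) (by
      rw [← pow_add, Nat.add_sub_cancel' hlt.le, h])
    exact h' ▸ dvd_pow_self T (by omega)
  · rw [mul_comm]; exact heq.symm
  · refine absurd ?_ hT.not_unit
    have h' : (1 : A') = T ^ (a * e - N) * (w ^ e * algebraMap B A' u) := mul_left_cancel₀ (pow_ne_zero N hT.ne_zero) (by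
      rw [← mul_assoc, ← pow_add, Nat.add_sub_cancel' hgt.le, mul_one, h])
    exact isUnit_of_dvd_one (h' ▸ (dvd_pow_self T (by omega)).mul_right _)

/-- Roots of units of order prime to the residue characteristic. -/
theorem exists_root_of_unit {B : Type u} [CommRing B] [HenselianLocalRing B] [IsSepClosed (ResidueField B)]
    {u : B} (hu : IsUnit u) {e : ℕ} (he : 1 ≤ e) (heu : IsUnit (e : B)) : ∃ v : B, v ^ e = u := by
  haveI : NeZero (e : ResidueField B) := ⟨by rw [← map_natCast (residue B)]; exact (heu.map _).ne_zero⟩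
  obtain ⟨z, hz⟩ := IsSepClosed.exists_pow_nat_eq (residue B u) e
  obtain ⟨a, rfl⟩ := residue_surjective z
  have hau : IsUnit a := by
    refine by_contra fun hna => (hu.map (residue B)).ne_zero ?_
    rw [← hz, (residue_eq_zero_iff a).2 hna, zero_pow (by omega)]
  obtain ⟨v, hv, -⟩ := HenselianLocalRing.is_henselian (X ^ e - C u) (monic_X_pow_sub_C u (by omega)) a (by
      rw [← residue_eq_zero_iff, eval_sub, eval_pow, eval_X, eval_C, map_sub, map_pow, hz, sub_self]) (by
      rw [derivative_sub, derivative_X_pow, derivative_C, sub_zero, eval_mul, eval_C, eval_pow, eval_X]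
      exact heu.mul (hau.pow _))
  refine ⟨v, ?_⟩
  rw [IsRoot, eval_sub, eval_pow, eval_X, eval_C, sub_eq_zero] at hv
  exact hv

/-- A finite extension unramified at all primes of height at most one of a strictly henselian regular ring is trivial. -/
theorem bijective_of_unramified_codim_one (A B : Type u) [CommRing A] [IsRegularLocalRing A] [IsDomain A]
    [HenselianLocalRing A] [IsSepClosed (ResidueField A)] [CommRing B] [IsDomain B] [IsLocalRing B]
    [IsIntegrallyClosed B] [Algebra A B] [Module.Finite A B] (hinj : Function.Injective (algebraMap A B))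
    (h : ∀ (t : Ideal B) [t.IsPrime], t.height ≤ 1 → Algebra.IsUnramifiedAt A t) :
    Function.Bijective (algebraMap A B) := by
  haveI := RegLoc6.isIntegrallyClosed_of_isRegularLocalRing A
  haveI : FaithfulSMul A B := (faithfulSMul_iff_algebraMap_injective A B).2 hinj
  haveI : Algebra.IsIntegral A B := Algebra.IsIntegral.of_finite A B
  haveI : IsNoetherianRing B := IsNoetherianRing.of_finite A B
  haveI : Algebra.FinitePresentation A B := Algebra.FinitePresentation.of_finiteType.mp inferInstance
  haveI : Algebra.Etale A B := by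
    refine { formallyEtale := ?_, finitePresentation := inferInstance }
    refine Algebra.etaleLocus_eq_univ_iff.1 (Set.eq_univ_of_forall fun q => ?_)
    refine Pi1Ext.BranchAlg.isEtaleAt_of_le (s := maximalIdeal B) (le_maximalIdeal q.2.ne_top) ?_
    have hht : (maximalIdeal B).height = (maximalIdeal A).height := by
      haveI : (maximalIdeal B).LiesOver (maximalIdeal A) :=
        ⟨(IsLocalRing.eq_maximalIdeal (Ideal.isMaximal_comap_of_isIntegral_of_isMaximal (maximalIdeal B))).symm⟩
      refine le_antisymm ?_ ?_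
      · have := EGA41Lib.ringKrullDim_eq_of_integral hinj
        rw [← IsLocalRing.maximalIdeal_height_eq_ringKrullDim, ← IsLocalRing.maximalIdeal_height_eq_ringKrullDim] at this
        exact (WithBot.coe_inj.1 this).le
      · rw [Ideal.height_eq_height_add_of_liesOver_of_hasGoingDown (maximalIdeal A) (maximalIdeal B)]
        exact le_self_add
    by_cases h0 : (maximalIdeal A).height = 0
    · -- `A` is a field
      have hA : IsField A := by
        refine IsLocalRing.isField_iff_maximalIdeal_eq.2 ?_
        by_contra hne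
        have := Ideal.height_strict_mono_of_isPrime_of_isPrime (bot_lt_iff_ne_bot.2 hne)
        rw [h0] at this
        exact not_lt_zero this
      haveI : Module.Flat A B := by
        letI := hA.toField
        infer_instance
      haveI := h (maximalIdeal B) (by rw [hht, h0]; exact zero_le_one)
      exact Algebra.IsEtaleAt.of_isUnramifiedAt_of_flat (maximalIdeal B)
    have hdim : ringKrullDim (Localization.AtPrime (maximalIdeal B)) = ringKrullDim A := by
      rw [IsLocalization.AtPrime.ringKrullDim_eq_height (maximalIdeal B), hht,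
        IsLocalRing.maximalIdeal_height_eq_ringKrullDim]
    haveI : IsIntegrallyClosed (Localization.AtPrime (maximalIdeal B)) :=
      isIntegrallyClosed_of_isLocalization _ _ (maximalIdeal B).primeCompl_le_nonZeroDivisors
    refine Pi1Ext.BranchAlg.isEtaleAt_local (maximalIdeal B) hdim ?_ fun t _ _ ht => h t ht.le
    rw [hdim, ← IsLocalRing.maximalIdeal_height_eq_ringKrullDim, ← WithBot.coe_one, WithBot.coe_le_coe,
      Order.one_le_iff_pos, pos_iff_ne_zero]
    exact h0
  obtain ⟨σ⟩ := exists_algHom_of_strictlyHenselian A B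
  refine ⟨hinj, fun b => ⟨σ b, ?_⟩⟩
  have hσ : Function.Injective σ := by
    rw [← σ.coe_toRingHom, RingHom.injective_iff_ker_eq_bot]
    haveI : (RingHom.ker σ).IsPrime := RingHom.ker_isPrime σ
    refine Ideal.eq_bot_of_comap_eq_bot (R := A) (eq_bot_iff.2 fun x hx => ?_)
    rw [Ideal.mem_comap, RingHom.mem_ker, AlgHom.coe_toRingHom, AlgHom.commutes] at hx
    exact Ideal.mem_bot.2 hx
  exact hσ (σ.commutes (σ b))

/-- Height one primes generated by a uniformiser are unramified over the Kummer ring below. -/
theorem isUnramifiedAt_of_root {A B C : Type u} [CommRing A] [IsDomain A] [IsIntegrallyClosed A] [IsNoetherianRing A]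
    [CommRing B] [IsDomain B] [IsNoetherianRing B] [CommRing C] [Algebra A B] [Module.Finite A B]
    [FaithfulSMul A B] [Algebra B C] [Algebra A C] [IsScalarTower A B C]
    (a : A) (b : B) (c : C) (ha : Prime a) (hb : Prime b) (hab : algebraMap A B a = b)
    [(Ideal.span {c}).IsPrime] (hbc : Ideal.span {b} = (Ideal.span {c}).comap (algebraMap B C))
    (hac : algebraMap A C a ∈ Ideal.span {c})
    {r : ℕ} (T : Fin r → C) (hgen : Algebra.adjoin A (Set.range T) = ⊤)
    (h : ∀ j, T j ∈ Ideal.span {c} ∨ ∃ (m : ℕ) (x : A), IsUnit (m : A) ∧ ¬ a ∣ x ∧ T j ^ m = algebraMap A C x)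
    (t : Ideal B) [t.IsPrime] (ht : t.height ≤ 1) (hbt : b ∈ t) : Algebra.IsUnramifiedAt A t := by
  haveI : (Ideal.span {b}).IsPrime := (Ideal.span_singleton_prime hb.ne_zero).2 hb
  haveI : (Ideal.span {a}).IsPrime := (Ideal.span_singleton_prime ha.ne_zero).2 ha
  have heq : t = Ideal.span {b} := by
    by_contra hne
    have hlt : Ideal.span {b} < t := lt_of_le_of_ne ((Ideal.span_singleton_le_iff_mem _).2 hbt) (Ne.symm hne)
    have := Ideal.height_strict_mono_of_isPrime_of_isPrime hlt
    rw [height_eq_one_of_span hb.ne_zero] at this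
    exact lt_irrefl _ (this.trans_le ht)
  subst heq
  let p := Ideal.span {a}
  let q := Ideal.span {b}
  let P := Ideal.span {c}
  have hpq : q.comap (algebraMap A B) = p := by
    haveI : (q.comap (algebraMap A B)).IsPrime := Ideal.comap_isPrime _ _
    haveI : q.LiesOver (q.comap (algebraMap A B)) := ⟨rfl⟩
    haveI : Algebra.IsIntegral A B := Algebra.IsIntegral.of_finite A B
    have hsub : p ≤ q.comap (algebraMap A B) := by
      rw [Ideal.span_singleton_le_iff_mem, Ideal.mem_comap, hab]
      exact Ideal.mem_span_singleton_self b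
    by_contra hne
    have hlt := Ideal.height_strict_mono_of_isPrime_of_isPrime (lt_of_le_of_ne hsub (Ne.symm hne))
    rw [height_eq_one_of_span ha.ne_zero] at hlt
    refine lt_irrefl _ (hlt.trans_le (le_trans ?_ ht))
    rw [Ideal.height_eq_height_add_of_liesOver_of_hasGoingDown (q.comap (algebraMap A B)) q]
    exact le_self_add
  haveI : q.LiesOver p := ⟨hpq.symm⟩
  haveI : P.LiesOver q := ⟨hbc⟩
  haveI : P.LiesOver p := Ideal.LiesOver.trans P q p
  letI := Localization.AtPrime.algebraOfLiesOver p q
  letI := Localization.AtPrime.algebraOfLiesOver q P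
  letI := Localization.AtPrime.algebraOfLiesOver p P
  rw [Algebra.isUnramifiedAt_iff_map_eq A p q]
  refine ⟨?_, ?_⟩
  · haveI : Algebra.IsSeparable p.ResidueField P.ResidueField := isSeparable_residueField_of_roots p P T hgen fun j => by
      refine (h j).imp_right fun ⟨m, x, hm, hx, hj⟩ => ⟨m, x, ?_, fun hxp => hx (Ideal.mem_span_singleton.1 hxp), hj⟩
      rw [← map_natCast (algebraMap A p.ResidueField)]
      exact (hm.map _).ne_zero
    haveI : IsScalarTower A q.ResidueField P.ResidueField := IsScalarTower.of_algebraMap_eq fun x => by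
      rw [IsScalarTower.algebraMap_apply A B q.ResidueField, ← IsScalarTower.algebraMap_apply B q.ResidueField P.ResidueField,
        ← IsScalarTower.algebraMap_apply A B P.ResidueField]
    haveI : IsScalarTower p.ResidueField q.ResidueField P.ResidueField :=
      IsScalarTower.of_algebraMap_eq' (Ideal.ResidueField.ringHom_ext (RingHom.ext fun x => by
        show algebraMap p.ResidueField P.ResidueField (algebraMap A p.ResidueField x) =
          algebraMap q.ResidueField P.ResidueField (algebraMap p.ResidueField q.ResidueField (algebraMap A p.ResidueField x))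
        rw [← IsScalarTower.algebraMap_apply A p.ResidueField P.ResidueField,
          ← IsScalarTower.algebraMap_apply A p.ResidueField q.ResidueField,
          ← IsScalarTower.algebraMap_apply A q.ResidueField P.ResidueField]))
    exact Algebra.isSeparable_tower_bot_of_isSeparable p.ResidueField q.ResidueField P.ResidueField
  · rw [← Localization.AtPrime.map_eq_maximalIdeal, Ideal.map_span, Ideal.map_span, Set.image_singleton,
      Set.image_singleton, IsScalarTower.algebraMap_apply A B (Localization.AtPrime q), hab]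

theorem etale_of_algEquiv {R X Y : Type u} [CommRing R] [CommRing X] [Algebra R X] [CommRing Y] [Algebra R Y]
    (e : X ≃ₐ[R] Y) (h : Algebra.Etale R X) : Algebra.Etale R Y :=
  Algebra.Etale.of_equiv e

/-- The embedding of a tame cover into a Kummer algebra. -/
theorem exists_embedding (A : Type u) [CommRing A] [IsRegularLocalRing A] [IsDomain A] [HenselianLocalRing A]
    [IsSepClosed (ResidueField A)] {r : ℕ} (f : Fin r → A) (hm : ∀ i, f i ∈ maximalIdeal A)
    (hf : LinearIndependent (ResidueField A) (fun i => (maximalIdeal A).toCotangent ⟨f i, hm i⟩))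
    [∀ i, (Ideal.span {f i}).IsPrime]
    (B : Type u) [CommRing B] [IsDomain B] [Algebra A B] [Module.Finite A B] [Module.Free A B]
    [Algebra.Etale (Localization.Away (∏ i, f i)) (Localization.Away (∏ i, f i) ⊗[A] B)]
    (htame : SGA1.IsTameAlong f (algebraMap A B)) :
    ∃ n : Fin r → ℕ, (∀ i, 1 ≤ n i) ∧ (∀ i, IsUnit ((n i : ℕ) : ResidueField A)) ∧
      ∃ ψ : B →ₐ[A] SGA1.kummerAlg A f n, Function.Injective ψ := by
  classical
  let F := ∏ i, f i
  let Af := Localization.Away F
  obtain ⟨K, _, _, _⟩ : ∃ (K : Type u) (_ : Field K) (_ : Algebra A K), IsFractionRing A K :=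
    ⟨FractionRing A, inferInstance, inferInstance, inferInstance⟩
  have hF : F ≠ 0 := Finset.prod_ne_zero_iff.2 fun i _ h0 => hf.ne_zero i (by
    have : (⟨f i, hm i⟩ : maximalIdeal A) = 0 := Subtype.ext h0
    show (maximalIdeal A).toCotangent ⟨f i, hm i⟩ = 0
    rw [this, map_zero])
  have hpow : Submonoid.powers F ≤ nonZeroDivisors A := Submonoid.powers_le.2 (mem_nonZeroDivisors_of_ne_zero hF)
  have huF : ∀ y : Submonoid.powers F, IsUnit (algebraMap A K y) := fun y =>
    IsLocalization.map_units K (⟨(y : A), hpow y.2⟩ : nonZeroDivisors A)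
  letI : Algebra Af K := (IsLocalization.lift (M := Submonoid.powers F) (S := Af) huF).toAlgebra
  haveI : IsScalarTower A Af K := IsScalarTower.of_algebraMap_eq fun a => (IsLocalization.lift_eq huF a).symm
  let e1 : K ⊗[Af] (Af ⊗[A] B) ≃ₐ[K] K ⊗[A] B := Algebra.TensorProduct.cancelBaseChange A Af K K B
  haveI : Module.Finite K (K ⊗[A] B) := inferInstance
  haveI : Algebra.Etale K (K ⊗[A] B) := etale_of_algEquiv (X := K ⊗[Af] (Af ⊗[A] B)) e1 inferInstance
  obtain ⟨n, hn, hnu, hmod⟩ := exists_hasModel A f hm hf K (K ⊗[A] B)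
    (fun P _ _ hP R _ _ _ _ _ => by
      have huR : ∀ y : Submonoid.powers F, IsUnit (algebraMap A R y) := by
        rintro ⟨_, k, rfl⟩
        refine IsLocalization.map_units R (⟨F ^ k, fun h => ?_⟩ : P.primeCompl)
        obtain ⟨i, -, hi⟩ := (Ideal.IsPrime.prod_mem_iff (p := P)).1 (Ideal.IsPrime.mem_of_pow_mem inferInstance k h)
        exact hP i hi
      letI : Algebra Af R := (IsLocalization.lift (M := Submonoid.powers F) (S := Af) huR).toAlgebra
      haveI : IsScalarTower A Af R := IsScalarTower.of_algebraMap_eq fun a => (IsLocalization.lift_eq huR a).symm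
      haveI : IsScalarTower Af R K := IsScalarTower.of_algebraMap_eq' (IsLocalization.ringHom_ext (Submonoid.powers F)
        (RingHom.ext fun a => by
          show algebraMap Af K (algebraMap A Af a) = algebraMap R K (algebraMap Af R (algebraMap A Af a))
          rw [← IsScalarTower.algebraMap_apply A Af K, ← IsScalarTower.algebraMap_apply A Af R,
            ← IsScalarTower.algebraMap_apply A R K]))
      exact ((HasModel.of_etale Af K (Af ⊗[A] B)).baseChange R K).congr
        ((Algebra.TensorProduct.lid K (K ⊗[Af] (Af ⊗[A] B))).trans e1))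
    (fun i _ _ _ Q => tame_of_isTameAlong f htame K i Q)
  refine ⟨n, hn, hnu, ?_⟩
  let A' := SGA1.kummerAlg A f n
  haveI := KummerReg24.isRegularLocalRing A f hn hm hf
  haveI := RegLoc6.isDomain_of_isRegularLocalRing A'
  haveI := RegLoc6.isIntegrallyClosed_of_isRegularLocalRing A'
  obtain ⟨hh, hs⟩ := kummer_strictlyHenselian A f n hn
  haveI := hh
  haveI := hs
  have hAA' : Function.Injective (algebraMap A A') := KummerReg24.injective_algebraMap A f hn
  obtain ⟨K', _, _, _, _, _, _, _⟩ := exists_fraction_field A A' K hAA'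
  obtain ⟨C, _, _, hCf, hCe, ⟨eC⟩⟩ := hmod K'
  haveI := hCf
  haveI := hCe
  haveI : Nontrivial (K ⊗[A] B) := by
    have h : Function.Injective ((Algebra.linearMap A K).rTensor B) :=
      Module.Flat.rTensor_preserves_injective_linearMap _ (IsFractionRing.injective A K)
    exact (h.comp (TensorProduct.lid A B).symm.injective).nontrivial
  haveI : Nontrivial (K' ⊗[K] (K ⊗[A] B)) := by
    have h : Function.Injective ((Algebra.linearMap K K').rTensor (K ⊗[A] B)) :=
      Module.Flat.rTensor_preserves_injective_linearMap _ (algebraMap K K').injective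
    exact (h.comp (TensorProduct.lid K (K ⊗[A] B)).symm.injective).nontrivial
  haveI : Nontrivial (K' ⊗[A'] C) := eC.toEquiv.nontrivial
  haveI : Nontrivial C := by
    by_contra hC
    rw [not_nontrivial_iff_subsingleton] at hC
    exact not_subsingleton (K' ⊗[A'] C) inferInstance
  obtain ⟨σ⟩ := exists_algHom_of_strictlyHenselian A' C
  let τ : K' ⊗[A'] C →ₐ[K'] K' := Algebra.TensorProduct.lift (Algebra.ofId K' K')
    ((Algebra.ofId A' K').comp σ) fun _ _ => .all _ _
  let θ : B →ₐ[A] K' := (((τ.comp eC.symm.toAlgHom).restrictScalars A).comp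
    ((Algebra.TensorProduct.includeRight : K ⊗[A] B →ₐ[K] K' ⊗[K] (K ⊗[A] B)).restrictScalars A)).comp
    Algebra.TensorProduct.includeRight
  haveI : Algebra.IsIntegral A B := Algebra.IsIntegral.of_finite A B
  have hθ : ∀ b, θ b ∈ (IsScalarTower.toAlgHom A A' K').range := fun b =>
    IsIntegrallyClosed.isIntegral_iff.1 (((Algebra.IsIntegral.isIntegral (R := A) b).map θ).tower_top (A := A'))
  let ψ : B →ₐ[A] A' := (AlgEquiv.ofInjective (IsScalarTower.toAlgHom A A' K')
    (IsFractionRing.injective A' K')).symm.toAlgHom.comp (θ.codRestrict _ hθ)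
  refine ⟨ψ, ?_⟩
  rw [← ψ.coe_toRingHom, RingHom.injective_iff_ker_eq_bot]
  haveI : (RingHom.ker ψ).IsPrime := RingHom.ker_isPrime ψ
  refine Ideal.eq_bot_of_comap_eq_bot (R := A) (eq_bot_iff.2 fun x hx => ?_)
  rw [Ideal.mem_comap, RingHom.mem_ker, AlgHom.coe_toRingHom, AlgHom.commutes] at hx
  exact Ideal.mem_bot.2 (hAA' (hx.trans (map_zero _).symm))

/-- The map from the Kummer algebra is bijective. -/
theorem bijective_of_roots {A A'' B A' : Type u} [CommRing A] [CommRing A''] [IsRegularLocalRing A''] [IsDomain A'']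
    [HenselianLocalRing A''] [IsSepClosed (ResidueField A'')] [IsIntegrallyClosed A'']
    [CommRing B] [IsDomain B] [IsLocalRing B] [IsNoetherianRing B] [IsIntegrallyClosed B] [CommRing A']
    [Algebra A A''] [Algebra A B] [Module.Finite A B] [Algebra.FiniteType A B] [IsNoetherianRing A]
    [Algebra A A'] [Algebra B A'] [IsScalarTower A B A'] {r : ℕ} (f : Fin r → A)
    [Algebra.Etale (Localization.Away (∏ i, f i)) (Localization.Away (∏ i, f i) ⊗[A] B)]
    (g : A'' →ₐ[A] B) (hginj : Function.Injective g) (ψ : B →ₐ[A] A')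
    (T'' : Fin r → A'') (T : Fin r → A') (e n : Fin r → ℕ)
    (hT''pow : ∀ i, T'' i ^ e i = algebraMap A A'' (f i)) (hTpow : ∀ i, T i ^ n i = algebraMap A A' (f i))
    (hgen : Algebra.adjoin A (Set.range T) = ⊤) (hnA : ∀ i, IsUnit ((n i : ℕ) : A))
    (hT'' : ∀ i, T'' i ∈ maximalIdeal A'')
    (hliT'' : LinearIndependent (ResidueField A'') (fun i => (maximalIdeal A'').toCotangent ⟨T'' i, hT'' i⟩))
    (hTprime : ∀ i, Prime (T i)) (π v u : Fin r → B) (hvu : ∀ i, IsUnit (v i)) (hu : ∀ i, IsUnit (u i))
    (hπ : ∀ i, Prime (π i))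
    (hspan : ∀ i, Ideal.span {π i} = (Ideal.span {T i}).comap (algebraMap B A'))
    (hfact : ∀ i, algebraMap A B (f i) = u i * π i ^ e i) (hg : ∀ i, g (T'' i) = v i * π i) :
    Function.Bijective g := by
  classical
  letI : Algebra A'' B := g.toRingHom.toAlgebra
  haveI : IsScalarTower A A'' B := IsScalarTower.of_algebraMap_eq fun x => (g.commutes x).symm
  haveI : Module.Finite A'' B := Module.Finite.of_restrictScalars_finite A A'' B
  haveI : FaithfulSMul A'' B := (faithfulSMul_iff_algebraMap_injective A'' B).2 hginj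
  haveI : Algebra.FinitePresentation A B := Algebra.FinitePresentation.of_finiteType.mp inferInstance
  letI : Algebra A'' A' := ((algebraMap B A').comp g.toRingHom).toAlgebra
  haveI : IsScalarTower A'' B A' := IsScalarTower.of_algebraMap_eq fun x => rfl
  haveI : IsScalarTower A A'' A' := IsScalarTower.of_algebraMap_eq fun x => by
    show algebraMap A A' x = algebraMap B A' (g (algebraMap A A'' x))
    rw [AlgHom.commutes, ← IsScalarTower.algebraMap_apply]
  refine bijective_of_unramified_codim_one A'' B hginj fun t _ ht => ?_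
  by_cases hi : ∃ i, π i ∈ t
  · obtain ⟨i, hi⟩ := hi
    haveI : (Ideal.span {T i}).IsPrime := (Ideal.span_singleton_prime (hTprime i).ne_zero).2 (hTprime i)
    obtain ⟨hT''prime, hT''ndvd⟩ := prime_of_li T'' hT'' hliT'' i
    refine isUnramifiedAt_of_root (T'' i) (v i * π i) (T i) hT''prime
      ((Associated.prime_iff (associated_unit_mul_left (π i) (v i) (hvu i))).2 (hπ i)) (hg i)
      ((Ideal.span_singleton_mul_left_unit (hvu i) _).trans (hspan i)) ?_ T ?_ (fun j => ?_) t ht
      (Ideal.mul_mem_left _ _ hi)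
    · show algebraMap B A' (g (T'' i)) ∈ Ideal.span {T i}
      rw [hg]
      exact Ideal.mem_comap.1 ((hspan i).le (Ideal.mul_mem_left _ (v i) (Ideal.mem_span_singleton_self (π i))))
    · refine top_le_iff.1 ?_
      intro x _
      have hx : x ∈ Algebra.adjoin A (Set.range T) := hgen.ge trivial
      induction hx using Algebra.adjoin_induction with
      | mem y hy => exact Algebra.subset_adjoin hy
      | algebraMap a =>
        rw [IsScalarTower.algebraMap_apply A A'' A']
        exact Subalgebra.algebraMap_mem _ _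
      | add y z _ _ hy hz => exact add_mem (hy trivial) (hz trivial)
      | mul y z _ _ hy hz => exact mul_mem (hy trivial) (hz trivial)
    · by_cases hj : j = i
      · subst hj
        exact Or.inl (Ideal.mem_span_singleton_self _)
      · refine Or.inr ⟨n j, algebraMap A A'' (f j), ?_, ?_, ?_⟩
        · rw [← map_natCast (algebraMap A A'')]
          exact (hnA j).map _
        · rw [← hT''pow j]
          exact fun h => hT''ndvd j hj (hT''prime.dvd_of_dvd_pow h)
        · rw [hTpow, ← IsScalarTower.algebraMap_apply]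
  · push Not at hi
    have hFt : algebraMap A B (∏ i, f i) ∉ t := by
      rw [map_prod, Ideal.IsPrime.prod_mem_iff (p := t)]
      rintro ⟨i, -, h⟩
      rw [hfact] at h
      exact hi i (Ideal.IsPrime.mem_of_pow_mem inferInstance _ ((Ideal.unit_mul_mem_iff_mem _ (hu i)).1 h))
    haveI : Algebra.IsEtaleAt A t :=
      Algebra.basicOpen_subset_etaleLocus_iff_etale.2 (Pi1Ext.PuritySch.etAway_of_etale (∏ i, f i))
        (show (⟨t, inferInstance⟩ : PrimeSpectrum B) ∈ PrimeSpectrum.basicOpen (algebraMap A B (∏ i, f i)) from hFt)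
    haveI : Algebra.FormallyUnramified A (Localization.AtPrime t) := inferInstance
    exact Algebra.FormallyUnramified.of_restrictScalars A A'' _

/-- A regular finite algebra embedded in a regular algebra generated by roots is a Kummer algebra. -/
theorem exists_equiv_kummer_of_embedding (A : Type u) [CommRing A] [IsRegularLocalRing A] [IsDomain A]
    [HenselianLocalRing A] [IsSepClosed (ResidueField A)] {r : ℕ} (f : Fin r → A) (hm : ∀ i, f i ∈ maximalIdeal A)
    (hf : LinearIndependent (ResidueField A) (fun i => (maximalIdeal A).toCotangent ⟨f i, hm i⟩))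
    (B : Type u) [CommRing B] [IsDomain B] [Algebra A B] [Module.Finite A B]
    (hreg : ∀ (q : Ideal B) [q.IsPrime], IsRegularLocalRing (Localization.AtPrime q))
    [Algebra.Etale (Localization.Away (∏ i, f i)) (Localization.Away (∏ i, f i) ⊗[A] B)]
    (A' : Type u) [CommRing A'] [IsRegularLocalRing A'] [IsDomain A'] [Algebra A A'] [Algebra.IsIntegral A A']
    (hAA' : Function.Injective (algebraMap A A')) (T : Fin r → A') (hT : ∀ i, T i ∈ maximalIdeal A')
    (hliT : LinearIndependent (ResidueField A') (fun i => (maximalIdeal A').toCotangent ⟨T i, hT i⟩))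
    (n : Fin r → ℕ) (hn : ∀ i, 1 ≤ n i) (hnu : ∀ i, IsUnit ((n i : ℕ) : ResidueField A))
    (hTpow : ∀ i, T i ^ n i = algebraMap A A' (f i)) (hgen : Algebra.adjoin A (Set.range T) = ⊤)
    (ψ : B →ₐ[A] A') (hψ : Function.Injective ψ) :
    ∃ n : Fin r → ℕ, (∀ i, 1 ≤ n i) ∧ (∀ i, IsUnit ((n i : ℕ) : ResidueField A)) ∧
      Nonempty (B ≃ₐ[A] SGA1.kummerAlg A f n) := by
  classical
  letI : Algebra B A' := ψ.toRingHom.toAlgebra
  haveI : IsScalarTower A B A' := IsScalarTower.of_algebraMap_eq fun x => (ψ.commutes x).symm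
  haveI : Algebra.IsIntegral B A' := Algebra.IsIntegral.tower_top (R := A)
  haveI : Algebra.IsIntegral A B := Algebra.IsIntegral.of_finite A B
  haveI : IsLocalRing B := by
    refine IsLocalRing.of_unique_max_ideal ⟨(maximalIdeal A').comap (algebraMap B A'),
      Ideal.isMaximal_comap_of_isIntegral_of_isMaximal _, fun m hm' => ?_⟩
    obtain ⟨M, hM, hMm⟩ := Ideal.exists_ideal_over_maximal_of_isIntegral (S := A') m (by
      rw [show RingHom.ker (algebraMap B A') = ⊥ from (RingHom.injective_iff_ker_eq_bot _).1 hψ]; exact bot_le)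
    rw [← hMm, IsLocalRing.eq_maximalIdeal hM]
  haveI : IsLocalHom (algebraMap A B) := ((IsLocalRing.local_hom_TFAE _).out 0 4).2
    (IsLocalRing.eq_maximalIdeal (Ideal.isMaximal_comap_of_isIntegral_of_isMaximal (maximalIdeal B)))
  obtain ⟨hB1, hB2⟩ := Groth.Agent.S14620.result (algebraMap A B)
    (RingHom.finite_algebraMap.2 inferInstance) ⟨inferInstance, inferInstance⟩
  haveI := hB1
  haveI := hB2
  haveI : IsRegularLocalRing B := by
    haveI := hreg (maximalIdeal B)
    exact IsRegularLocalRing.of_ringEquiv (R := Localization.AtPrime (maximalIdeal B))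
      (IsLocalization.atUnits B (maximalIdeal B).primeCompl (S := Localization.AtPrime (maximalIdeal B))
        fun x hx => by simpa [Ideal.mem_primeCompl_iff, IsUnit.mem_submonoid_iff] using hx).symm.toRingEquiv
  haveI := RegLoc6.isIntegrallyClosed_of_isRegularLocalRing B
  haveI := (Groth.Agent.S2821.result B).2
  choose hTprime hTndvd using prime_of_li T hT hliT
  choose π u e hu he hdvd hfact hspan hπ using fun i =>
    exists_uniformizer (A := A) (B := B) (A' := A') hψ (f i) (T i) (hTprime i) (n i) (hn i) (hTpow i)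
  have hnA : ∀ i, IsUnit ((n i : ℕ) : A) := fun i => by
    by_contra h
    exact (hnu i).ne_zero (by rw [← map_natCast (residue A)]; exact (residue_eq_zero_iff _).2 h)
  have heA : ∀ i, IsUnit ((e i : ℕ) : A) := fun i => isUnit_of_dvd_unit (Nat.cast_dvd_cast (hdvd i)) (hnA i)
  choose v hv using fun i => exists_root_of_unit (hu i) (he i) (map_natCast (algebraMap A B) (e i) ▸ (heA i).map _)
  have hvu : ∀ i, IsUnit (v i) := fun i =>
    (isUnit_pow_iff (by have := he i; omega)).1 (hv i ▸ hu i)
  obtain ⟨g, hg⟩ := KummerReg24.exists_algHom A f e (fun i => v i * π i) fun i => by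
    rw [mul_pow, hv, hfact]
  let A'' := SGA1.kummerAlg A f e
  obtain ⟨hreg'', hT'', hliT''⟩ := KummerReg24.isRegularLocalRing_and_li A f he hm hf
  haveI := hreg''
  haveI := RegLoc6.isDomain_of_isRegularLocalRing A''
  haveI := RegLoc6.isIntegrallyClosed_of_isRegularLocalRing A''
  obtain ⟨hh'', hs''⟩ := kummer_strictlyHenselian A f e he
  haveI := hh''
  haveI := hs''
  haveI := KummerReg24.isIntegral A f (n := e) he
  have hginj : Function.Injective g := by
    rw [← g.coe_toRingHom, RingHom.injective_iff_ker_eq_bot]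
    haveI : (RingHom.ker g).IsPrime := RingHom.ker_isPrime g
    refine Ideal.eq_bot_of_comap_eq_bot (R := A) (eq_bot_iff.2 fun x hx => ?_)
    rw [Ideal.mem_comap, RingHom.mem_ker, AlgHom.coe_toRingHom, AlgHom.commutes] at hx
    refine Ideal.mem_bot.2 (hAA' ?_)
    show algebraMap A A' x = algebraMap A A' 0
    rw [map_zero, IsScalarTower.algebraMap_apply A B A', hx, map_zero]
  exact ⟨e, he, fun i => map_natCast (residue A) (e i) ▸ (heA i).map _,
    ⟨(AlgEquiv.ofBijective g (bijective_of_roots f g hginj ψ (KummerReg24.T A f e) T e n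
      (KummerReg24.T_pow A f e) hTpow hgen hnA hT'' hliT'' hTprime π v u hvu hu hπ hspan hfact hg)).symm⟩⟩


/-- A regular tame cover of a strictly henselian regular local ring is a Kummer algebra. -/
theorem exists_equiv_kummer (A : Type u) [CommRing A] [IsRegularLocalRing A] [IsDomain A] [HenselianLocalRing A]
    [IsSepClosed (ResidueField A)] {r : ℕ} (f : Fin r → A) (hm : ∀ i, f i ∈ maximalIdeal A)
    (hf : LinearIndependent (ResidueField A) (fun i => (maximalIdeal A).toCotangent ⟨f i, hm i⟩))
    [∀ i, (Ideal.span {f i}).IsPrime]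
    (B : Type u) [CommRing B] [IsDomain B] [Algebra A B] [Module.Finite A B] [Module.Free A B]
    (hreg : ∀ (q : Ideal B) [q.IsPrime], IsRegularLocalRing (Localization.AtPrime q))
    [Algebra.Etale (Localization.Away (∏ i, f i)) (Localization.Away (∏ i, f i) ⊗[A] B)]
    (htame : SGA1.IsTameAlong f (algebraMap A B)) :
    ∃ n : Fin r → ℕ, (∀ i, 1 ≤ n i) ∧ (∀ i, IsUnit ((n i : ℕ) : ResidueField A)) ∧
      Nonempty (B ≃ₐ[A] SGA1.kummerAlg A f n) := by
  classical
  obtain ⟨n, hn, hnu, ψ, hψ⟩ := exists_embedding A f hm hf B htame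
  let A' := SGA1.kummerAlg A f n
  obtain ⟨hreg', hT, hliT⟩ := KummerReg24.isRegularLocalRing_and_li A f hn hm hf
  haveI := hreg'
  haveI := RegLoc6.isDomain_of_isRegularLocalRing A'
  haveI := KummerReg24.isIntegral A f hn
  exact exists_equiv_kummer_of_embedding A f hm hf B hreg A' (KummerReg24.injective_algebraMap A f hn)
    (KummerReg24.T A f n) hT hliT n hn hnu (KummerReg24.T_pow A f n) (adjoin_T A f n) ψ hψ

end Groth.Agent.Abh24
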