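import Groth.Agent.Abh24.Main
import Groth.Agent.S1989
import Groth.Prelude.Def_Pi1

/-!
# The absolute Abhyankar lemma for covers of `D(f₁ ⋯ f_r)`
-/

set_option autoImplicit false
set_option backward.isDefEq.respectTransparency false
set_option backward.isDefEq.respectTransparency.types false
set_option linter.style.haveILetI false
set_option maxHeartbeats 1000000

universe u

open AlgebraicGeometry CategoryTheory CategoryTheory.Limits TensorProduct IsLocalRing

namespace Groth.Agent.Abh24

/-- Clearing denominators in `K ⊗ B`. -/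
theorem exists_smul_eq_one_tmul {A K B : Type u} [CommRing A] [IsDomain A] [Field K] [Algebra A K]
    [IsFractionRing A K] [CommRing B] [Algebra A B] (z : K ⊗[A] B) :
    ∃ a : A, a ≠ 0 ∧ ∃ b : B, a • z = (1 : K) ⊗ₜ[A] b := by
  induction z with
  | zero => exact ⟨1, one_ne_zero, 0, by simp⟩
  | tmul k b =>
    obtain ⟨x, y, hy, rfl⟩ := IsFractionRing.div_surjective (A := A) k
    refine ⟨y, nonZeroDivisors.ne_zero hy, x • b, ?_⟩
    rw [TensorProduct.smul_tmul', Algebra.smul_def, mul_div_cancel₀ _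
      (IsFractionRing.to_map_ne_zero_of_mem_nonZeroDivisors hy), TensorProduct.tmul_smul, TensorProduct.smul_tmul',
      Algebra.smul_def, mul_one]
  | add z w hz hw =>
    obtain ⟨a, ha, b, hb⟩ := hz
    obtain ⟨a', ha', b', hb'⟩ := hw
    refine ⟨a * a', mul_ne_zero ha ha', a' • b + a • b', ?_⟩
    rw [smul_add, TensorProduct.tmul_add, TensorProduct.tmul_smul, TensorProduct.tmul_smul, ← hb, ← hb', smul_smul,
      smul_smul, mul_comm a' a]

/-- Tameness at the residue fields of the generic fibre. -/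
theorem tame_of_isTameAlong {A : Type u} [CommRing A] [IsDomain A] {r : ℕ} (f : Fin r → A)
    [∀ i, (Ideal.span {f i}).IsPrime] {B : Type u} [CommRing B] [Algebra A B]
    (ht : SGA1.IsTameAlong f (algebraMap A B)) (K : Type u) [Field K] [Algebra A K] [IsFractionRing A K]
    [Module.Finite K (K ⊗[A] B)] [Algebra.Etale K (K ⊗[A] B)] (i : Fin r)
    [IsDiscreteValuationRing (Localization.AtPrime (Ideal.span {f i}))]
    [Algebra (Localization.AtPrime (Ideal.span {f i})) K] [IsScalarTower A (Localization.AtPrime (Ideal.span {f i})) K]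
    (Q : MaximalSpectrum (K ⊗[A] B)) :
    letI : Field ((K ⊗[A] B) ⧸ Q.asIdeal) := Ideal.Quotient.field Q.asIdeal
    EtRam.IsTamelyRamified (Localization.AtPrime (Ideal.span {f i}))
      ((algebraMap K ((K ⊗[A] B) ⧸ Q.asIdeal)).comp (algebraMap (Localization.AtPrime (Ideal.span {f i})) K)) := by
  let E := K ⊗[A] B
  let L := E ⧸ Q.asIdeal
  letI : Field L := Ideal.Quotient.field Q.asIdeal
  let inc : B →ₐ[A] E := Algebra.TensorProduct.includeRight
  let q : Ideal B := Q.asIdeal.comap inc
  haveI : q.IsPrime := Ideal.comap_isPrime _ _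
  have hinjK : Function.Injective ((algebraMap K L).comp (algebraMap A K)) :=
    (algebraMap K L).injective.comp (IsFractionRing.injective A K)
  have hq : Ideal.comap (algebraMap A B) q = ⊥ := by
    rw [eq_bot_iff]
    intro a ha
    rw [Ideal.mem_comap, Ideal.mem_comap] at ha
    refine Ideal.mem_bot.2 (hinjK ?_)
    rw [map_zero]
    show Ideal.Quotient.mk Q.asIdeal (algebraMap K E (algebraMap A K a)) = 0
    rw [Ideal.Quotient.eq_zero_iff_mem, ← IsScalarTower.algebraMap_apply A K E, ← inc.commutes a]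
    exact ha
  have htq := ht i q hq
  let M := q.ResidueField
  have hu : ∀ y : nonZeroDivisors A, IsUnit (algebraMap A M y) := fun y => by
    rw [isUnit_iff_ne_zero, IsScalarTower.algebraMap_apply A B M, ne_eq, ← RingHom.mem_ker,
      Ideal.ker_algebraMap_residueField]
    exact fun hy => nonZeroDivisors.coe_ne_zero y (Ideal.mem_bot.1 (hq ▸ Ideal.mem_comap.2 hy))
  letI : Algebra K M := (IsLocalization.lift (M := nonZeroDivisors A) (S := K) hu).toAlgebra
  haveI : IsScalarTower A K M := IsScalarTower.of_algebraMap_eq fun a => (IsLocalization.lift_eq hu a).symm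
  let ψ : E →ₐ[K] M := Algebra.TensorProduct.lift (Algebra.ofId K M) (IsScalarTower.toAlgHom A B M)
    fun _ _ => .all _ _
  have hψinc : ∀ b, ψ (inc b) = algebraMap B M b := fun b => by
    show algebraMap K M 1 * algebraMap B M b = algebraMap B M b
    rw [map_one, one_mul]
  haveI := IsArtinianRing.of_finite K E
  haveI : (RingHom.ker ψ).IsPrime := RingHom.ker_isPrime ψ
  haveI hkmax : (RingHom.ker ψ).IsMaximal := IsArtinianRing.isMaximal_of_isPrime _
  have hker : RingHom.ker ψ = Q.asIdeal := by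
    refine hkmax.eq_of_le Q.isMaximal.ne_top fun z hz => ?_
    obtain ⟨a, ha, b, hb⟩ := exists_smul_eq_one_tmul z
    have hbq : b ∈ q := by
      rw [← Ideal.ker_algebraMap_residueField q, RingHom.mem_ker, ← hψinc]
      show ψ ((1 : K) ⊗ₜ[A] b) = 0
      rw [← hb, Algebra.smul_def, map_mul, RingHom.mem_ker.1 hz, mul_zero]
    have h1 : a • z ∈ Q.asIdeal := hb ▸ hbq
    have hau : IsUnit (algebraMap A E a) := by
      rw [IsScalarTower.algebraMap_apply A K E]
      exact (IsUnit.mk0 _ ((map_ne_zero_iff _ (IsFractionRing.injective A K)).2 ha)).map _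
    rw [Algebra.smul_def] at h1
    exact (Ideal.unit_mul_mem_iff_mem _ hau).1 h1
  let j : L →ₐ[K] M := Ideal.Quotient.liftₐ Q.asIdeal ψ fun a ha => RingHom.mem_ker.1 (hker ▸ ha)
  letI : Algebra L M := j.toRingHom.toAlgebra
  haveI : IsScalarTower K L M := IsScalarTower.of_algebraMap_eq fun k => (j.commutes k).symm
  have hj : ∀ b, j (Ideal.Quotient.mk Q.asIdeal (inc b)) = algebraMap B M b := fun b => hψinc b
  have hsurjψ : Function.Surjective ψ := by
    intro m
    obtain ⟨x, y, hy, rfl⟩ := IsFractionRing.div_surjective (A := B ⧸ q) m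
    obtain ⟨x, rfl⟩ := Ideal.Quotient.mk_surjective x
    obtain ⟨y, rfl⟩ := Ideal.Quotient.mk_surjective y
    obtain ⟨w, hw⟩ := Ideal.Quotient.mk_surjective
      ((Ideal.Quotient.mk Q.asIdeal (inc x)) / Ideal.Quotient.mk Q.asIdeal (inc y) : L)
    refine ⟨w, ?_⟩
    show j (Ideal.Quotient.mk Q.asIdeal w) = _
    rw [hw, map_div₀, hj, hj]
    rfl
  haveI : Module.Finite K M := Module.Finite.of_surjective ψ.toLinearMap hsurjψ
  haveI : Algebra.FormallyUnramified K M := Algebra.FormallyUnramified.of_surjective ψ hsurjψ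
  haveI : Algebra.IsSeparable K M := (Algebra.FormallyUnramified.iff_isSeparable K M).1 inferInstance
  let R := Localization.AtPrime (Ideal.span {f i})
  haveI : IsFractionRing R K :=
    IsFractionRing.isFractionRing_of_isDomain_of_isLocalization (Ideal.span {f i}).primeCompl R K
  refine (Groth.Agent.S1989.result R K L M).1 ?_
  have hmap : SGA1.genericResidueMap (algebraMap A B) (Ideal.span {f i}) q hq =
      (algebraMap K M).comp (algebraMap R K) :=
    IsLocalization.ringHom_ext (Ideal.span {f i}).primeCompl (RingHom.ext fun a => by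
      show IsLocalization.lift _ (algebraMap A R a) = algebraMap K M (algebraMap R K (algebraMap A R a))
      rw [IsLocalization.lift_eq, ← IsScalarTower.algebraMap_apply A R K, ← IsScalarTower.algebraMap_apply A K M]
      rfl)
  rw [← hmap]
  exact htq

/-- Two models with the same generic fibre agree after inverting an element. -/
theorem nonempty_away_equiv (A : Type u) [CommRing A] [IsDomain A] (F : A) (hF : F ≠ 0)
    (Af : Type u) [CommRing Af] [Algebra A Af] [IsLocalization.Away F Af] (B : Type u) [CommRing B] [Algebra A B]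
    [Algebra Af B] [IsScalarTower A Af B] [Module.Finite Af B] [Algebra.Etale Af B]
    (K : Type u) [Field K] [Algebra A K] [IsFractionRing A K] [Algebra Af K] [IsScalarTower A Af K]
    (e1 : K ⊗[A] B ≃ₐ[K] K ⊗[Af] B)
    (A' : Type u) [CommRing A'] [IsDomain A'] [IsIntegrallyClosed A'] [Algebra A A']
    (hAA' : Function.Injective (algebraMap A A'))
    (K' : Type u) [Field K'] [Algebra A' K'] [IsFractionRing A' K'] [Algebra K K'] [Algebra A K']
    [IsScalarTower A A' K'] [IsScalarTower A K K']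
    (C : Type u) [CommRing C] [Algebra A' C] [Module.Finite A' C] [Algebra.Etale A' C]
    (eC : K' ⊗[A'] C ≃ₐ[K'] K' ⊗[K] (K ⊗[A] B))
    (A'f : Type u) [CommRing A'f] [Algebra A' A'f] [IsLocalization.Away (algebraMap A A' F) A'f] [Algebra Af A'f]
    [Algebra A A'f] [IsScalarTower A A' A'f] [IsScalarTower A Af A'f] :
    Nonempty (A'f ⊗[A'] C ≃ₐ[A'f] A'f ⊗[Af] B) := by
  let F' := algebraMap A A' F
  have hpow' : Submonoid.powers F' ≤ nonZeroDivisors A' :=
    Submonoid.powers_le.2 (mem_nonZeroDivisors_of_ne_zero ((map_ne_zero_iff _ hAA').2 hF))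
  have huF' : ∀ y : Submonoid.powers F', IsUnit (algebraMap A' K' y) := fun y =>
    IsLocalization.map_units K' (⟨(y : A'), hpow' y.2⟩ : nonZeroDivisors A')
  letI : Algebra A'f K' := (IsLocalization.lift (M := Submonoid.powers F') (S := A'f) huF').toAlgebra
  haveI : IsScalarTower A' A'f K' := IsScalarTower.of_algebraMap_eq fun a => (IsLocalization.lift_eq huF' a).symm
  haveI : IsDomain A'f := IsLocalization.isDomain_of_le_nonZeroDivisors A'f hpow'
  haveI : IsIntegrallyClosed A'f := isIntegrallyClosed_of_isLocalization A'f (Submonoid.powers F') hpow'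
  haveI : IsFractionRing A'f K' :=
    IsFractionRing.isFractionRing_of_isDomain_of_isLocalization (Submonoid.powers F') A'f K'
  letI : Algebra Af K' := ((algebraMap K K').comp (algebraMap Af K)).toAlgebra
  haveI : IsScalarTower Af K K' := IsScalarTower.of_algebraMap_eq fun _ => rfl
  haveI : IsScalarTower Af A'f K' := IsScalarTower.of_algebraMap_eq' (IsLocalization.ringHom_ext (Submonoid.powers F)
    (RingHom.ext fun a => by
      show algebraMap K K' (algebraMap Af K (algebraMap A Af a)) = algebraMap A'f K' (algebraMap Af A'f (algebraMap A Af a))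
      rw [← IsScalarTower.algebraMap_apply A Af K, ← IsScalarTower.algebraMap_apply A K K',
        ← IsScalarTower.algebraMap_apply A Af A'f, IsScalarTower.algebraMap_apply A A' A'f,
        ← IsScalarTower.algebraMap_apply A' A'f K', ← IsScalarTower.algebraMap_apply A A' K']))
  let E' := K' ⊗[K] (K ⊗[A] B)
  haveI : IsScalarTower A'f K' E' := inferInstance
  let e₁ : K' ⊗[A'f] (A'f ⊗[A'] C) ≃ₐ[K'] E' := (Algebra.TensorProduct.cancelBaseChange A' A'f K' K' C).trans eC
  let e₂ : K' ⊗[A'f] (A'f ⊗[Af] B) ≃ₐ[K'] E' :=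
    ((Algebra.TensorProduct.cancelBaseChange Af A'f K' K' B).trans
      (Algebra.TensorProduct.cancelBaseChange Af K K' K' B).symm).trans
        (Algebra.TensorProduct.congr (AlgEquiv.refl (R := K') (A₁ := K')) e1.symm)
  obtain ⟨φ₁, -⟩ := exists_equiv_integralClosure (A'f ⊗[A'] C) e₁
  obtain ⟨φ₂, -⟩ := exists_equiv_integralClosure (A'f ⊗[Af] B) e₂
  exact ⟨φ₁.trans φ₂.symm⟩

/-- The absolute Abhyankar lemma for an algebra finite étale over `A[1/(f₁ ⋯ f_r)]`. -/
theorem exists_model_algebra (A : Type u) [CommRing A] [IsRegularLocalRing A] [IsDomain A] {r : ℕ} (f : Fin r → A)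
    (hm : ∀ i, f i ∈ maximalIdeal A)
    (hf : LinearIndependent (ResidueField A) (fun i => (maximalIdeal A).toCotangent ⟨f i, hm i⟩))
    [∀ i, (Ideal.span {f i}).IsPrime] (Af : Type u) [CommRing Af] [Algebra A Af]
    [IsLocalization.Away (∏ i, f i) Af] (B : Type u) [CommRing B] [Algebra A B] [Algebra Af B]
    [IsScalarTower A Af B] [Module.Finite Af B] [Algebra.Etale Af B] (ht : SGA1.IsTameAlong f (algebraMap A B)) :
    ∃ n : Fin r → ℕ, (∀ i, 1 ≤ n i) ∧ (∀ i, IsUnit ((n i : ℕ) : ResidueField A)) ∧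
      ∃ (C : Type u) (_ : CommRing C) (_ : Algebra (SGA1.kummerAlg A f n) C),
        Module.Finite (SGA1.kummerAlg A f n) C ∧ Algebra.Etale (SGA1.kummerAlg A f n) C ∧
        ∀ (A'f : Type u) [CommRing A'f] [Algebra (SGA1.kummerAlg A f n) A'f]
          [IsLocalization.Away (algebraMap A (SGA1.kummerAlg A f n) (∏ i, f i)) A'f] [Algebra Af A'f]
          [Algebra A A'f] [IsScalarTower A (SGA1.kummerAlg A f n) A'f] [IsScalarTower A Af A'f],
          Nonempty (A'f ⊗[SGA1.kummerAlg A f n] C ≃ₐ[A'f] A'f ⊗[Af] B) := by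
  classical
  let F := ∏ i, f i
  have hf0 : ∀ i, f i ≠ 0 := fun i h0 => hf.ne_zero i (by
    have : (⟨f i, hm i⟩ : maximalIdeal A) = 0 := Subtype.ext h0
    show (maximalIdeal A).toCotangent ⟨f i, hm i⟩ = 0
    rw [this, map_zero])
  have hF : F ≠ 0 := Finset.prod_ne_zero_iff.2 fun i _ => hf0 i
  have hpow : Submonoid.powers F ≤ nonZeroDivisors A :=
    Submonoid.powers_le.2 (mem_nonZeroDivisors_of_ne_zero hF)
  let K := FractionRing A
  have huF : ∀ y : Submonoid.powers F, IsUnit (algebraMap A K y) := fun y =>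
    IsLocalization.map_units K (⟨(y : A), hpow y.2⟩ : nonZeroDivisors A)
  letI : Algebra Af K := (IsLocalization.lift (M := Submonoid.powers F) (S := Af) huF).toAlgebra
  haveI : IsScalarTower A Af K := IsScalarTower.of_algebraMap_eq fun a => (IsLocalization.lift_eq huF a).symm
  haveI := IsLocalization.tensorProduct_compatibleSMul (Submonoid.powers F) Af K B
  let e1 : K ⊗[A] B ≃ₐ[K] K ⊗[Af] B := Algebra.TensorProduct.equivOfCompatibleSMul Af A K K B
  haveI : Algebra.Etale K (K ⊗[A] B) := Algebra.Etale.of_equiv e1.symm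
  haveI : Module.Finite K (K ⊗[A] B) := Module.Finite.equiv e1.symm.toLinearEquiv
  obtain ⟨n, hn, hnu, hmod⟩ := exists_hasModel A f hm hf K (K ⊗[A] B)
    (fun P _ _ hP R _ _ _ _ _ => by
      have huR : ∀ y : Submonoid.powers F, IsUnit (algebraMap A R y) := by
        rintro ⟨_, k, rfl⟩
        refine IsLocalization.map_units R (⟨F ^ k, fun h => ?_⟩ : P.primeCompl)
        obtain ⟨i, -, hi⟩ := (Ideal.IsPrime.prod_mem_iff (p := P)).1 (Ideal.IsPrime.mem_of_pow_mem inferInstance k h)
        exact hP i hi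
      letI : Algebra Af R := (IsLocalization.lift (M := Submonoid.powers F) (S := Af) huR).toAlgebra
      haveI : IsScalarTower A Af R := IsScalarTower.of_algebraMap_eq fun a => (IsLocalization.lift_eq huR a).symm
      haveI : IsScalarTower Af R K := IsScalarTower.of_algebraMap_eq' (IsLocalization.ringHom_ext (Submonoid.powers F)
        (RingHom.ext fun a => by
          show algebraMap Af K (algebraMap A Af a) = algebraMap R K (algebraMap Af R (algebraMap A Af a))
          rw [← IsScalarTower.algebraMap_apply A Af K, ← IsScalarTower.algebraMap_apply A Af R,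
            ← IsScalarTower.algebraMap_apply A R K]))
      exact ((HasModel.of_etale Af K B).baseChange R K).congr ((Algebra.TensorProduct.lid K (K ⊗[Af] B)).trans e1.symm))
    (fun i _ _ _ Q => tame_of_isTameAlong f ht K i Q)
  refine ⟨n, hn, hnu, ?_⟩
  let A' := SGA1.kummerAlg A f n
  haveI := KummerReg24.isRegularLocalRing A f hn hm hf
  haveI := RegLoc6.isDomain_of_isRegularLocalRing A'
  haveI := RegLoc6.isIntegrallyClosed_of_isRegularLocalRing A'
  have hAA' : Function.Injective (algebraMap A A') := KummerReg24.injective_algebraMap A f hn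
  obtain ⟨K', _, _, _, _, _, _, _⟩ := exists_fraction_field A A' K hAA'
  obtain ⟨C, _, _, hCf, hCe, ⟨eC⟩⟩ := hmod K'
  haveI := hCf
  haveI := hCe
  exact ⟨C, inferInstance, inferInstance, hCf, hCe, fun A'f _ _ _ _ _ _ _ =>
    nonempty_away_equiv A F hF Af B K e1 A' hAA' K' C eC A'f⟩

/-- An isomorphism of opens of affine schemes with spectra of localisations. -/
theorem exists_away_iso (A : Type u) [CommRing A] (F : A) (U : (Spec (CommRingCat.of A)).Opens)
    (hU : (U : Set (Spec (CommRingCat.of A))) = (PrimeSpectrum.basicOpen F : Set (PrimeSpectrum A)))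
    (Af : Type u) [CommRing Af] [Algebra A Af] [IsLocalization.Away F Af] :
    ∃ u : Spec (CommRingCat.of Af) ≅ (U : Scheme.{u}),
      u.hom ≫ U.ι = Spec.map (CommRingCat.ofHom (algebraMap A Af)) := by
  haveI : IsOpenImmersion (Spec.map (CommRingCat.ofHom (algebraMap A Af))) := IsOpenImmersion.of_isLocalization F
  have hr : Set.range (Spec.map (CommRingCat.ofHom (algebraMap A Af))) = Set.range U.ι := by
    rw [Scheme.Opens.range_ι, hU]
    exact PrimeSpectrum.localization_away_comap_range Af F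
  exact ⟨IsOpenImmersion.isoOfRangeEq _ _ hr, IsOpenImmersion.isoOfRangeEq_hom_fac _ _ hr⟩

/-- The two restrictions agree. -/
theorem nonempty_restrict_iso (A : Type u) [CommRing A] (F : A) (V : FEt.Cat ((SGA1.specBasicOpen A F) : Scheme.{u}))
    [IsAffine V.left] (Af : Type u) [CommRing Af] [Algebra A Af] [IsLocalization.Away F Af]
    (B : CommRingCat.{u}) [Algebra Af B]
    (u : Spec (CommRingCat.of Af) ≅ (SGA1.specBasicOpen A F : Scheme.{u}))
    (hu : u.hom ≫ (SGA1.specBasicOpen A F).ι = Spec.map (CommRingCat.ofHom (algebraMap A Af)))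
    (φ : CommRingCat.of Af ⟶ B) (eB : V.left ≅ Spec B)
    (hφ : Spec.map φ = eB.inv ≫ V.hom ≫ u.inv) (hφ' : φ = CommRingCat.ofHom (algebraMap Af B))
    (A' : Type u) [CommRing A'] [Algebra A A'] (C : Type u) [CommRing C] [Algebra A' C]
    (W : FEt.Cat (Spec (CommRingCat.of A'))) (eW : W.left ≅ Spec (CommRingCat.of C))
    (hW : W.hom = eW.hom ≫ Spec.map (CommRingCat.ofHom (algebraMap A' C)))
    (hiso : ∀ (A'f : Type u) [CommRing A'f] [Algebra A' A'f]
      [IsLocalization.Away (algebraMap A A' F) A'f] [Algebra Af A'f]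
      [Algebra A A'f] [IsScalarTower A A' A'f] [IsScalarTower A Af A'f],
      Nonempty (A'f ⊗[A'] C ≃ₐ[A'f] A'f ⊗[Af] B)) :
    Nonempty ((FEt.restrict ((Spec.map (CommRingCat.ofHom (algebraMap A A'))) ⁻¹ᵁ (SGA1.specBasicOpen A F)).ι).obj W ≅
      (FEt.restrict ((Spec.map (CommRingCat.ofHom (algebraMap A A'))) ∣_ (SGA1.specBasicOpen A F))).obj V) := by
  let U := SGA1.specBasicOpen A F
  let v : V.left ⟶ (U : Scheme.{u}) := V.hom
  let g := Spec.map (CommRingCat.ofHom (algebraMap A A'))
  let F' := algebraMap A A' F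
  let A'f := Localization.Away F'
  have huF : ∀ y : Submonoid.powers F, IsUnit (algebraMap A A'f y) := by
    rintro ⟨_, k, rfl⟩
    rw [map_pow, IsScalarTower.algebraMap_apply A A' A'f]
    exact (IsLocalization.Away.algebraMap_isUnit F').pow k
  letI : Algebra Af A'f := (IsLocalization.lift (M := Submonoid.powers F) (S := Af) huF).toAlgebra
  haveI : IsScalarTower A Af A'f := IsScalarTower.of_algebraMap_eq fun x => (IsLocalization.lift_eq huF x).symm
  obtain ⟨γ⟩ := hiso A'f
  obtain ⟨u', hu'⟩ := exists_away_iso A' F' (g ⁻¹ᵁ U) rfl A'f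
  let C₁ := A'f ⊗[A'] C
  let B₁ := A'f ⊗[Af] B
  -- the two pullback squares
  have h1 : IsPullback (Spec.map (CommRingCat.ofHom (Algebra.TensorProduct.includeRight : C →ₐ[A'] C₁).toRingHom) ≫ eW.inv)
      (Spec.map (CommRingCat.ofHom (algebraMap A'f C₁)) ≫ u'.hom) W.hom (g ⁻¹ᵁ U).ι := by
    refine (isPullback_SpecMap_of_isPushout _ _ _ _ (CommRingCat.isPushout_tensorProduct A' A'f C)).flip.of_iso
      (Iso.refl _) eW.symm u' (Iso.refl _) (by simp) (by simp; rfl) (by simp [hW]) ?_
    simp only [Iso.refl_hom, Category.comp_id]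
    exact hu'.symm
  have h2 : IsPullback (Spec.map (CommRingCat.ofHom (Algebra.TensorProduct.includeRight : B →ₐ[Af] B₁).toRingHom) ≫ eB.inv)
      (Spec.map (CommRingCat.ofHom (algebraMap A'f B₁)) ≫ u'.hom) v (g ∣_ U) := by
    refine (isPullback_SpecMap_of_isPushout _ _ _ _ (CommRingCat.isPushout_tensorProduct Af A'f B)).flip.of_iso
      (Iso.refl _) eB.symm u' u (by simp) (by simp; rfl) ?_ ?_
    · show Spec.map (CommRingCat.ofHom (algebraMap Af B)) ≫ u.hom = eB.inv ≫ v
      rw [← hφ', hφ]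
      simp [v]
    · refine (cancel_mono U.ι).1 ?_
      rw [Category.assoc, Category.assoc, morphismRestrict_ι, hu, ← Spec.map_comp, ← Category.assoc u'.hom, hu']
      rw [show g = Spec.map (CommRingCat.ofHom (algebraMap A A')) from rfl, ← Spec.map_comp,
        ← CommRingCat.ofHom_comp, ← CommRingCat.ofHom_comp, ← IsScalarTower.algebraMap_eq A Af A'f,
        ← IsScalarTower.algebraMap_eq A A' A'f]
  let sγ : Spec (CommRingCat.of C₁) ≅ Spec (CommRingCat.of B₁) :=
    Scheme.Spec.mapIso γ.symm.toRingEquiv.toCommRingCatIso.op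
  refine ⟨MorphismProperty.Over.isoMk (h1.isoPullback.symm ≪≫ sγ ≪≫ h2.isoPullback) ?_⟩
  show (h1.isoPullback.inv ≫ sγ.hom ≫ h2.isoPullback.hom) ≫ pullback.snd v (g ∣_ U) = pullback.snd _ _
  rw [Category.assoc, Category.assoc, h2.isoPullback_hom_snd, Iso.inv_comp_eq, h1.isoPullback_hom_snd,
    ← Category.assoc]
  congr 1
  show Spec.map (CommRingCat.ofHom γ.symm.toRingEquiv.toRingHom) ≫ _ = _
  rw [← Spec.map_comp, ← CommRingCat.ofHom_comp]
  congr 1
  exact CommRingCat.hom_ext (RingHom.ext fun x => γ.symm.commutes x)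

/-- The absolute Abhyankar lemma. -/
theorem abhyankar_absolute (A : Type u) [CommRing A] [IsRegularLocalRing A] [IsDomain A] (r : ℕ) (f : Fin r → A)
    (hm : ∀ i, f i ∈ maximalIdeal A)
    (hf : LinearIndependent (ResidueField A) (fun i => (maximalIdeal A).toCotangent ⟨f i, hm i⟩))
    [∀ i, (Ideal.span {f i}).IsPrime]
    (V : FEt.Cat ((SGA1.specBasicOpen A (∏ i, f i)) : Scheme.{u}))
    (htame : SGA1.IsTameAlong f (((V.hom ≫ ((SGA1.specBasicOpen A (∏ i, f i))).ι).appTop).hom.comp
      (Scheme.ΓSpecIso (CommRingCat.of A)).inv.hom)) :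
    ∃ n : Fin r → ℕ, (∀ i, 1 ≤ n i) ∧ (∀ i, IsUnit ((n i : ℕ) : ResidueField A)) ∧
      ∃ W : FEt.Cat (Spec (CommRingCat.of (SGA1.kummerAlg A f n))),
        Nonempty ((FEt.restrict ((Spec.map (CommRingCat.ofHom (algebraMap A (SGA1.kummerAlg A f n)))) ⁻¹ᵁ (SGA1.specBasicOpen A (∏ i, f i))).ι).obj W ≅ (FEt.restrict ((Spec.map (CommRingCat.ofHom (algebraMap A (SGA1.kummerAlg A f n)))) ∣_ (SGA1.specBasicOpen A (∏ i, f i)))).obj V) := by
  let F := ∏ i, f i
  let U := SGA1.specBasicOpen A F
  let Af := Localization.Away F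
  obtain ⟨u, hu⟩ := exists_away_iso A F U rfl Af
  haveI : IsAffine (U : Scheme.{u}) := IsAffine.of_isIso u.inv
  let v : V.left ⟶ (U : Scheme.{u}) := V.hom
  haveI : IsFinite v := V.prop.1
  haveI : Etale v := V.prop.2
  haveI : IsAffine V.left := isAffine_of_isAffineHom v
  let B := Γ(V.left, ⊤)
  let φ : CommRingCat.of Af ⟶ B := Spec.preimage (V.left.isoSpec.inv ≫ v ≫ u.inv)
  have hφ : Spec.map φ = V.left.isoSpec.inv ≫ v ≫ u.inv := Spec.map_preimage _
  letI : Algebra Af B := φ.hom.toAlgebra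
  letI : Algebra A B := (((v ≫ U.ι).appTop).hom.comp (Scheme.ΓSpecIso (CommRingCat.of A)).inv.hom).toAlgebra
  have hAB : Spec.map (CommRingCat.ofHom (algebraMap A B)) = V.left.isoSpec.inv ≫ v ≫ U.ι := by
    show Spec.map ((Scheme.ΓSpecIso (CommRingCat.of A)).inv ≫ (v ≫ U.ι).appTop) = _
    rw [← cancel_epi V.left.isoSpec.hom, Iso.hom_inv_id_assoc, Spec.map_comp, ← Category.assoc,
      Scheme.isoSpec_hom_naturality, Category.assoc]
    simp [Scheme.isoSpec, toSpecΓ_SpecMap_ΓSpecIso_inv]
  haveI : IsScalarTower A Af B := IsScalarTower.of_algebraMap_eq' (by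
    have h : CommRingCat.ofHom (algebraMap A Af) ≫ φ = CommRingCat.ofHom (algebraMap A B) := by
      refine Spec.map_injective ?_
      rw [Spec.map_comp, hφ, hAB, ← hu]
      simp
    exact (congrArg CommRingCat.Hom.hom h).symm)
  haveI : IsFinite (Spec.map φ) := by rw [hφ]; infer_instance
  haveI : Etale (Spec.map φ) := by rw [hφ]; infer_instance
  haveI : Module.Finite Af B := (IsFinite.SpecMap_iff φ).1 inferInstance
  haveI : Algebra.Etale Af B := RingHom.etale_algebraMap.1 ((HasRingHomProperty.Spec_iff (P := @Etale)).1 inferInstance)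
  obtain ⟨n, hn, hnu, C, _, _, hCf, hCe, hiso⟩ := exists_model_algebra A f hm hf Af B htame
  refine ⟨n, hn, hnu, ?_⟩
  let A' := SGA1.kummerAlg A f n
  let a := Spec.map (CommRingCat.ofHom (algebraMap A' C))
  haveI : IsFinite a := (IsFinite.SpecMap_iff _).2 (RingHom.finite_algebraMap.2 hCf)
  haveI : Etale a := (HasRingHomProperty.Spec_iff (P := @Etale)).2 (RingHom.etale_algebraMap.2 hCe)
  let W : FEt.Cat (Spec (CommRingCat.of A')) := MorphismProperty.Over.mk ⊤ a ⟨inferInstance, inferInstance⟩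
  refine ⟨W, ?_⟩
  exact nonempty_restrict_iso A F V Af B u hu φ V.left.isoSpec hφ rfl A' C W (Iso.refl _) (Category.id_comp _).symm hiso

end Groth.Agent.Abh24
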