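import Groth.Agent.Abh24.Scheme
import Groth.Agent.S0246
import Groth.Agent.S14620

/-!
# The Abhyankar lemma over strictly henselian regular rings
-/

set_option autoImplicit false
set_option backward.isDefEq.respectTransparency false
set_option backward.isDefEq.respectTransparency.types false
set_option linter.style.haveILetI false
set_option maxHeartbeats 1000000

universe u

open TensorProduct IsLocalRing

namespace Groth.Agent.Abh24

/-- A nonzero finite étale algebra over a strictly henselian normal domain has a point. -/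
theorem exists_algHom_of_strictlyHenselian (R : Type u) [CommRing R] [IsDomain R] [IsIntegrallyClosed R]
    [HenselianLocalRing R] [IsSepClosed (ResidueField R)] (C : Type u) [CommRing C] [Algebra R C] [Module.Finite R C]
    [Algebra.Etale R C] [Nontrivial C] : Nonempty (C →ₐ[R] R) := by
  let K := FractionRing R
  haveI : Nontrivial (K ⊗[R] C) := by
    have h : Function.Injective ((Algebra.linearMap R K).rTensor C) :=
      Module.Flat.rTensor_preserves_injective_linearMap _ (IsFractionRing.injective R K)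
    exact (h.comp (TensorProduct.lid R C).symm.injective).nontrivial
  obtain ⟨Q, hQ⟩ := Ideal.exists_maximal (K ⊗[R] C)
  haveI := hQ
  letI : Field ((K ⊗[R] C) ⧸ Q) := Ideal.Quotient.field Q
  haveI : Module.Finite K ((K ⊗[R] C) ⧸ Q) := Module.Finite.of_surjective
    (Ideal.Quotient.mkₐ K Q).toLinearMap Ideal.Quotient.mk_surjective
  haveI : Algebra.IsAlgebraic K ((K ⊗[R] C) ⧸ Q) := Algebra.IsAlgebraic.of_finite K _
  let φ : K ⊗[R] C →ₐ[K] AlgebraicClosure K := (IsAlgClosed.lift).comp (Ideal.Quotient.mkₐ K Q)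
  haveI : Algebra.IsIntegral R C := Algebra.IsIntegral.of_finite R C
  let φ' : C →ₐ[R] AlgebraicClosure K := (φ.restrictScalars R).comp Algebra.TensorProduct.includeRight
  have hc : ∀ c, ∃ x : R, algebraMap R (AlgebraicClosure K) x = φ' c := fun c => by
    obtain ⟨k, hk⟩ := (HasModel.of_etale R K C).mem_range φ ((1 : K) ⊗ₜ c)
    have hint : IsIntegral R k := by
      rw [← isIntegral_algebraMap_iff (algebraMap K (AlgebraicClosure K)).injective, hk]
      exact (Algebra.IsIntegral.isIntegral (R := R) c).map φ'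
    obtain ⟨x, hx⟩ := IsIntegrallyClosed.isIntegral_iff.1 hint
    exact ⟨x, by rw [IsScalarTower.algebraMap_apply R K (AlgebraicClosure K), hx, hk]; rfl⟩
  have hinj : Function.Injective (algebraMap R (AlgebraicClosure K)) := by
    rw [IsScalarTower.algebraMap_eq R K (AlgebraicClosure K)]
    exact (algebraMap K _).injective.comp (IsFractionRing.injective R K)
  have hle : ∀ c, φ' c ∈ (Algebra.ofId R (AlgebraicClosure K)).range := hc
  exact ⟨(AlgEquiv.ofInjective (Algebra.ofId R (AlgebraicClosure K)) hinj).symm.toAlgHom.comp (φ'.codRestrict _ hle)⟩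

/-- Kummer algebras over strictly henselian rings are strictly henselian. -/
theorem kummer_strictlyHenselian (A : Type u) [CommRing A] [HenselianLocalRing A] [IsSepClosed (ResidueField A)]
    {r : ℕ} (f : Fin r → A) (n : Fin r → ℕ) (hn : ∀ i, 1 ≤ n i) [IsLocalRing (SGA1.kummerAlg A f n)] :
    HenselianLocalRing (SGA1.kummerAlg A f n) ∧ IsSepClosed (ResidueField (SGA1.kummerAlg A f n)) := by
  haveI : Algebra.IsIntegral A (SGA1.kummerAlg A f n) := KummerReg24.isIntegral A f hn
  haveI : IsLocalHom (algebraMap A (SGA1.kummerAlg A f n)) := ((IsLocalRing.local_hom_TFAE _).out 0 4).2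
    (IsLocalRing.eq_maximalIdeal (Ideal.isMaximal_comap_of_isIntegral_of_isMaximal (maximalIdeal _)))
  obtain ⟨h1, h2⟩ := Groth.Agent.S14620.result (algebraMap A (SGA1.kummerAlg A f n))
    (RingHom.finite_algebraMap.2 Algebra.IsIntegral.finite) ⟨inferInstance, inferInstance⟩
  exact ⟨h1, h2⟩

/-- A connected tame cover is dominated by a Kummer cover. -/
theorem exists_dominating (A : Type u) [CommRing A] [IsRegularLocalRing A] [IsDomain A] [HenselianLocalRing A]
    [IsSepClosed (ResidueField A)] {r : ℕ} (f : Fin r → A) (hm : ∀ i, f i ∈ maximalIdeal A)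
    (hf : LinearIndependent (ResidueField A) (fun i => (maximalIdeal A).toCotangent ⟨f i, hm i⟩))
    [∀ i, (Ideal.span {f i}).IsPrime] (Af : Type u) [CommRing Af] [Algebra A Af]
    [IsLocalization.Away (∏ i, f i) Af] (B : Type u) [CommRing B] [IsDomain B] [Algebra A B] [Algebra Af B]
    [IsScalarTower A Af B] [Module.Finite Af B] [Algebra.Etale Af B] (ht : SGA1.IsTameAlong f (algebraMap A B)) :
    ∃ n : Fin r → ℕ, (∀ i, 1 ≤ n i) ∧ (∀ i, IsUnit ((n i : ℕ) : ResidueField A)) ∧
      ∀ (A'f : Type u) [CommRing A'f] [Algebra (SGA1.kummerAlg A f n) A'f]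
          [IsLocalization.Away (algebraMap A (SGA1.kummerAlg A f n) (∏ i, f i)) A'f] [Algebra Af A'f]
          [Algebra A A'f] [IsScalarTower A (SGA1.kummerAlg A f n) A'f] [IsScalarTower A Af A'f],
          ∃ ψ : B →ₐ[Af] A'f, Function.Injective ψ := by
  classical
  let F := ∏ i, f i
  obtain ⟨n, hn, hnu, C, _, _, hCf, hCe, hiso⟩ := exists_model_algebra A f hm hf Af B ht
  refine ⟨n, hn, hnu, fun A'f _ _ _ _ _ _ _ => ?_⟩
  let A' := SGA1.kummerAlg A f n
  haveI := KummerReg24.isRegularLocalRing A f hn hm hf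
  haveI := RegLoc6.isDomain_of_isRegularLocalRing A'
  haveI := RegLoc6.isIntegrallyClosed_of_isRegularLocalRing A'
  obtain ⟨hh, hs⟩ := kummer_strictlyHenselian A f n hn
  haveI := hh
  haveI := hs
  haveI := hCf
  haveI := hCe
  have hAA' : Function.Injective (algebraMap A A') := KummerReg24.injective_algebraMap A f hn
  have hF : F ≠ 0 := Finset.prod_ne_zero_iff.2 fun i _ h0 => hf.ne_zero i (by
    have : (⟨f i, hm i⟩ : maximalIdeal A) = 0 := Subtype.ext h0
    show (maximalIdeal A).toCotangent ⟨f i, hm i⟩ = 0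
    rw [this, map_zero])
  have hpow' : Submonoid.powers (algebraMap A A' F) ≤ nonZeroDivisors A' :=
    Submonoid.powers_le.2 (mem_nonZeroDivisors_of_ne_zero ((map_ne_zero_iff _ hAA').2 hF))
  haveI : IsDomain A'f := IsLocalization.isDomain_of_le_nonZeroDivisors A'f hpow'
  have hinjAf : Function.Injective (algebraMap Af A'f) := by
    rw [injective_iff_map_eq_zero]
    intro x hx
    obtain ⟨⟨a, s⟩, hs⟩ := IsLocalization.surj (Submonoid.powers F) x
    have h1 : algebraMap A A'f a = 0 := by
      rw [IsScalarTower.algebraMap_apply A Af A'f, ← hs, map_mul, hx, zero_mul]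
    rw [IsScalarTower.algebraMap_apply A A' A'f] at h1
    have ha : a = 0 := hAA' ((IsLocalization.injective A'f hpow' (h1.trans (map_zero _).symm)).trans (map_zero _).symm)
    rw [ha, map_zero] at hs
    exact (IsUnit.mul_left_eq_zero (IsLocalization.map_units Af s)).1 hs
  haveI : IsDomain Af := hinjAf.isDomain
  obtain ⟨γ⟩ := hiso A'f
  haveI : Nontrivial (A'f ⊗[Af] B) := by
    have h : Function.Injective ((Algebra.linearMap Af A'f).rTensor B) :=
      Module.Flat.rTensor_preserves_injective_linearMap _ hinjAf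
    exact (h.comp (TensorProduct.lid Af B).symm.injective).nontrivial
  haveI : Nontrivial (A'f ⊗[A'] C) := γ.toEquiv.nontrivial
  haveI : Nontrivial C := by
    by_contra hC
    rw [not_nontrivial_iff_subsingleton] at hC
    exact not_subsingleton (A'f ⊗[A'] C) inferInstance
  obtain ⟨σ⟩ := exists_algHom_of_strictlyHenselian A' C
  let τ : A'f ⊗[A'] C →ₐ[A'f] A'f := Algebra.TensorProduct.lift (Algebra.ofId A'f A'f)
    ((Algebra.ofId A' A'f).comp σ) fun _ _ => .all _ _
  let ψ : B →ₐ[Af] A'f := ((τ.comp γ.symm.toAlgHom).restrictScalars Af).comp Algebra.TensorProduct.includeRight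
  refine ⟨ψ, ?_⟩
  haveI : (RingHom.ker ψ).IsPrime := RingHom.ker_isPrime ψ
  haveI : Algebra.IsIntegral Af B := Algebra.IsIntegral.of_finite Af B
  rw [← ψ.coe_toRingHom, RingHom.injective_iff_ker_eq_bot]
  refine Ideal.eq_bot_of_comap_eq_bot (R := Af) ?_
  rw [eq_bot_iff]
  intro x hx
  rw [Ideal.mem_comap, RingHom.mem_ker, AlgHom.coe_toRingHom, AlgHom.commutes] at hx
  exact Ideal.mem_bot.2 (hinjAf (hx.trans (map_zero _).symm))

open AlgebraicGeometry CategoryTheory CategoryTheory.Limits in
/-- A morphism of affine schemes over `D(F)` from a map of algebras. -/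
theorem exists_morphism (A : Type u) [CommRing A] (F : A) (V : FEt.Cat ((SGA1.specBasicOpen A F) : Scheme.{u}))
    (Af : Type u) [CommRing Af] [Algebra A Af]
    (B : CommRingCat.{u}) [Algebra Af B] [Module.Finite Af B]
    (u : Spec (CommRingCat.of Af) ≅ (SGA1.specBasicOpen A F : Scheme.{u}))
    (hu : u.hom ≫ (SGA1.specBasicOpen A F).ι = Spec.map (CommRingCat.ofHom (algebraMap A Af)))
    (φ : CommRingCat.of Af ⟶ B) (eB : V.left ≅ Spec B)
    (hφ : Spec.map φ = eB.inv ≫ V.hom ≫ u.inv) (hφ' : φ = CommRingCat.ofHom (algebraMap Af B))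
    (A' : Type u) [CommRing A'] [Algebra A A'] [Algebra.IsIntegral A A']
    (A'f : Type u) [CommRing A'f] [Algebra A' A'f] [IsLocalization.Away (algebraMap A A' F) A'f] [Algebra Af A'f]
    [Algebra A A'f] [IsScalarTower A A' A'f] [IsScalarTower A Af A'f] [Algebra.IsIntegral Af A'f]
    (ψ : B →ₐ[Af] A'f) (hψ : Function.Injective ψ) :
    ∃ θ : (↑((Spec.map (CommRingCat.ofHom (algebraMap A A'))) ⁻¹ᵁ (SGA1.specBasicOpen A F)) : Scheme.{u}) ⟶ V.left,
      θ ≫ V.hom = (Spec.map (CommRingCat.ofHom (algebraMap A A'))) ∣_ (SGA1.specBasicOpen A F) ∧ Surjective θ := by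
  let U := SGA1.specBasicOpen A F
  let g := Spec.map (CommRingCat.ofHom (algebraMap A A'))
  obtain ⟨u', hu'⟩ := exists_away_iso A' (algebraMap A A' F) (g ⁻¹ᵁ U) rfl A'f
  let m := Spec.map (CommRingCat.ofHom ψ.toRingHom)
  have hm : m ≫ eB.inv ≫ V.hom = u'.hom ≫ (g ∣_ U) := by
    have h0 : eB.inv ≫ V.hom = Spec.map φ ≫ u.hom := by rw [hφ]; simp
    rw [h0, hφ']
    refine (cancel_mono U.ι).1 ?_
    rw [Category.assoc, Category.assoc, Category.assoc, morphismRestrict_ι, hu, ← Category.assoc u'.hom, hu',
      ← Spec.map_comp, ← Spec.map_comp, show g = Spec.map (CommRingCat.ofHom (algebraMap A A')) from rfl,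
      ← Spec.map_comp]
    congr 1
    refine CommRingCat.hom_ext (RingHom.ext fun a => ?_)
    show ψ (algebraMap Af B (algebraMap A Af a)) = algebraMap A' A'f (algebraMap A A' a)
    rw [AlgHom.commutes, ← IsScalarTower.algebraMap_apply A Af A'f, ← IsScalarTower.algebraMap_apply A A' A'f]
  haveI : Surjective m := by
    refine ⟨fun x => ?_⟩
    haveI : Algebra.IsIntegral Af A'f := inferInstance
    have hint : ψ.toRingHom.IsIntegral := RingHom.IsIntegral.tower_top (f := algebraMap Af B) ψ.toRingHom (by
      rw [show ψ.toRingHom.comp (algebraMap Af B) = algebraMap Af A'f from RingHom.ext ψ.commutes]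
      exact algebraMap_isIntegral_iff.2 inferInstance)
    exact hint.comap_surjective hψ x
  refine ⟨u'.inv ≫ m ≫ eB.inv, ?_, inferInstance⟩
  rw [Category.assoc, Category.assoc, hm, Iso.inv_hom_id_assoc]

/-- The localisation upstairs as an algebra over the localisation downstairs. -/
theorem exists_away_algebra (A : Type u) [CommRing A] (F : A) (Af : Type u) [CommRing Af] [Algebra A Af]
    [IsLocalization.Away F Af] (A' : Type u) [CommRing A'] [Algebra A A'] [Algebra.IsIntegral A A'] :
    ∃ (A'f : Type u) (_ : CommRing A'f) (_ : Algebra A' A'f) (_ : IsLocalization.Away (algebraMap A A' F) A'f)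
      (_ : Algebra Af A'f) (_ : Algebra A A'f) (_ : IsScalarTower A A' A'f) (_ : IsScalarTower A Af A'f),
      Algebra.IsIntegral Af A'f := by
  let A'f := Localization.Away (algebraMap A A' F)
  have huF : ∀ y : Submonoid.powers F, IsUnit (algebraMap A A'f y) := by
    rintro ⟨_, k, rfl⟩
    rw [map_pow, IsScalarTower.algebraMap_apply A A' A'f]
    exact (IsLocalization.Away.algebraMap_isUnit (algebraMap A A' F)).pow k
  letI : Algebra Af A'f := (IsLocalization.lift (M := Submonoid.powers F) (S := Af) huF).toAlgebra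
  haveI : IsScalarTower A Af A'f := IsScalarTower.of_algebraMap_eq fun x => (IsLocalization.lift_eq huF x).symm
  haveI : IsLocalization (Algebra.algebraMapSubmonoid A' (Submonoid.powers F)) A'f := by
    rw [Algebra.algebraMapSubmonoid_powers]; infer_instance
  haveI : Algebra.IsIntegral Af A'f := by
    refine ⟨fun x => ?_⟩
    obtain ⟨⟨a, s⟩, hs⟩ := IsLocalization.surj (Algebra.algebraMapSubmonoid A' (Submonoid.powers F)) x
    obtain ⟨t, ht, hts⟩ := s.2
    obtain ⟨si, hsi⟩ := (IsLocalization.map_units Af (⟨t, ht⟩ : Submonoid.powers F)).exists_left_inv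
    have ha : IsIntegral Af (algebraMap A' A'f a) :=
      ((Algebra.IsIntegral.isIntegral (R := A) a).map (IsScalarTower.toAlgHom A A' A'f)).tower_top
    have hx : x = algebraMap Af A'f si * algebraMap A' A'f a := by
      rw [← hs, mul_left_comm, ← hts, ← IsScalarTower.algebraMap_apply A A' A'f,
        IsScalarTower.algebraMap_apply A Af A'f, ← map_mul, hsi, map_one, mul_one]
    rw [hx]
    exact isIntegral_algebraMap.mul ha
  exact ⟨A'f, inferInstance, inferInstance, inferInstance, inferInstance, inferInstance, inferInstance,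
    inferInstance, inferInstance⟩

end Groth.Agent.Abh24
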